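import Groth.Agent.HyperFEt.Dualizing
import Groth.Agent.HyperAlg.GermDim

/-!
Annihilators of local cohomology of a local ring with a dualizing complex which has no associated prime
that is bad for `f`.
-/

set_option autoImplicit false
set_option linter.style.haveILetI false
set_option backward.isDefEq.respectTransparency false
set_option maxHeartbeats 800000

universe u

open CategoryTheory
attribute [local instance] HasDerivedCategory.standard

namespace Groth.Agent.HyperGen

variable {A : Type u} [CommRing A] [IsLocalRing A]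

/-- The prime avoids `f`, and its closure meets `V(f)` only in the closed point. -/
def Bad (f : A) (p : Ideal A) : Prop :=
  f ∉ p ∧ ∀ r : Ideal A, r.IsPrime → p ≤ r → f ∈ r → r = IsLocalRing.maximalIdeal A

/-- The depth condition at the primes avoiding `f` which are not bad. -/
def DepthCond (f : A) : Prop :=
  ∀ p : Ideal A, ∀ _ : p.IsPrime, f ∉ p → ¬ Bad f p →
    (3 : WithBot ℕ∞) < (LocCoh.depth (Localization.AtPrime p) (Localization.AtPrime p) : WithBot ℕ∞) + ringKrullDim (A ⧸ p)

theorem bad_of_radical {f : A} {p : Ideal A} (hfp : f ∉ p)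
    (h : (p ⊔ Ideal.span {f}).radical = IsLocalRing.maximalIdeal A) : Bad f p :=
  ⟨hfp, fun r hr hpr hfr => le_antisymm (IsLocalRing.le_maximalIdeal hr.ne_top)
    (h ▸ hr.radical_le_iff.2 (sup_le hpr ((Ideal.span_singleton_le_iff_mem _).2 hfr)))⟩

variable [IsNoetherianRing A]

theorem exists_annihilators (hd : ∃ ω : Dual.D A, Dual.IsDualizing A ω) (f : A) (hreg : f ∈ nonZeroDivisors A)
    (hass : ∀ p ∈ associatedPrimes A A, ¬ Bad f p) (hnb : DepthCond f) :
    ∃ (J : Ideal A) (t : ℕ),
      (∀ r : Ideal A, r.IsPrime → J ≤ r → f ∈ r → r = IsLocalRing.maximalIdeal A) ∧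
      (∃ n : ℕ, ∀ a ∈ J, ∀ i ≤ 3, ∀ x : LocCoh.H (IsLocalRing.maximalIdeal A) i A, (a * f ^ n) • x = 0) ∧
      ∀ b ∈ IsLocalRing.maximalIdeal A ^ t, ∀ x : LocCoh.H (IsLocalRing.maximalIdeal A) 1 A, b • x = 0 := by
  classical
  let m := IsLocalRing.maximalIdeal A
  let T : Set (PrimeSpectrum A) := PrimeSpectrum.zeroLocus (m : Set A)
  have hT : StableUnderSpecialization T := (PrimeSpectrum.isClosed_zeroLocus _).stableUnderSpecialization
  have hq : ∀ q ∈ T, q = IsLocalRing.closedPoint A := fun q hq => PrimeSpectrum.ext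
    (le_antisymm (IsLocalRing.le_maximalIdeal q.2.ne_top) ((PrimeSpectrum.mem_zeroLocus _ _).1 hq))
  obtain ⟨S, hS⟩ := FaltingsAnnLib.exists_injRep_eq (Dual.inD A A) 0
  let T' : Set (PrimeSpectrum A) := {p | f ∈ p.asIdeal ∨ Bad f p.asIdeal}
  have hT' : StableUnderSpecialization T' := fun p p' hs hp => by
    have hle : p.asIdeal ≤ p'.asIdeal := (PrimeSpectrum.le_iff_specializes p p').2 hs
    by_cases hf' : f ∈ p'.asIdeal
    · exact Or.inl hf'
    · rcases hp with hp | ⟨-, hp⟩
      · exact (hf' (hle hp)).elim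
      · exact Or.inr ⟨hf', fun r hr hr' => hp r hr (hle.trans hr')⟩
  obtain ⟨Q, hQ, hk⟩ := (FaltingsAnnLib.annihilator_module T hd (T' := T') hT hT' 3 A S hS).2 fun p q hp hq' hpq => by
    obtain rfl := hq q hq'
    rw [HyperFEt.krullDim_Icc_closedPoint, Depth.depth_localizedSelf]
    exact hnb p.asIdeal p.2 (fun h => hp (Or.inl h)) fun h => hp (Or.inr h)
  obtain ⟨Q₁, hQ₁, hk₁⟩ := (FaltingsAnnLib.annihilator_module T hd (T' := T) hT hT 1 A S hS).2 fun p q hp hq' hpq => by
    obtain rfl := hq q hq'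
    rw [HyperFEt.krullDim_Icc_closedPoint]
    by_cases hpass : p.asIdeal ∈ associatedPrimes A A
    · rw [Depth.depth_localizedSelf]
      refine lt_trans (b := (3 : WithBot ℕ∞)) (by norm_num) (hnb p.asIdeal p.2 (fun hfp => ?_) (hass _ hpass))
      have := biUnion_associatedPrimes_eq_compl_nonZeroDivisors A
      exact (this ▸ Set.mem_biUnion hpass hfp : f ∈ ((nonZeroDivisors A : Set A))ᶜ) hreg
    · have h1 : (1 : WithBot ℕ∞) ≤ ringKrullDim (A ⧸ p.asIdeal) := by
        rw [← HyperFEt.krullDim_Icc_closedPoint A p]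
        exact le_of_eq_of_le (by norm_num) (Order.LTSeries.length_le_krullDim
          ({ length := 1
             toFun := ![⟨p, le_rfl, hpq⟩, ⟨IsLocalRing.closedPoint A, hpq, le_rfl⟩]
             step := fun i => by
               obtain rfl : i = 0 := Subsingleton.elim _ _
               exact lt_of_le_of_ne hpq (fun h => hp (h ▸ hq')) } :
            LTSeries (Set.Icc p (IsLocalRing.closedPoint A))))
      calc ((1 : ℕ) : WithBot ℕ∞) < 1 + 1 := by norm_num
        _ ≤ _ := add_le_add (WithBot.coe_le_coe.2 (HyperAlg.one_le_depth_localized A p hpass)) h1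
  have hfin := Ideal.finite_minimalPrimes_of_isNoetherianRing A Q
  let s := hfin.toFinset.filter fun P => f ∉ P
  let J₁ : Ideal A := m ⊓ s.inf id
  have hrad : J₁ * Ideal.span {f} ≤ Q.radical := by
    rw [← Ideal.sInf_minimalPrimes, le_sInf_iff]
    intro P hP
    by_cases hfP : f ∈ P
    · exact Ideal.mul_le_right.trans ((Ideal.span_singleton_le_iff_mem _).2 hfP)
    · exact Ideal.mul_le_left.trans (inf_le_right.trans
        (Finset.inf_le (f := id) (Finset.mem_filter.2 ⟨hfin.mem_toFinset.2 hP, hfP⟩)))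
  obtain ⟨n, hn⟩ := Ideal.exists_pow_le_of_le_radical_of_fg hrad (IsNoetherian.noetherian _)
  obtain ⟨t, ht⟩ := Ideal.exists_pow_le_of_le_radical_of_fg (I := m) (J := Q₁) (by
    rw [← PrimeSpectrum.vanishingIdeal_zeroLocus_eq_radical]
    exact fun x hx => (PrimeSpectrum.mem_vanishingIdeal _ _).2 fun z hz =>
      (PrimeSpectrum.mem_zeroLocus _ _).1 (hQ₁ hz) hx) (IsNoetherian.noetherian _)
  refine ⟨J₁ ^ n, t, fun r hr hJr hfr => ?_, ⟨n, fun a ha i hi => ?_⟩, fun b hb => ?_⟩
  · rcases hr.inf_le.1 (hr.le_of_pow_le hJr) with h | h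
    · exact le_antisymm (IsLocalRing.le_maximalIdeal hr.ne_top) h
    · obtain ⟨P, hP, hPr⟩ := (Ideal.IsPrime.inf_le' hr).1 h
      obtain ⟨hP, hfP⟩ := Finset.mem_filter.1 hP
      have hP' := hfin.mem_toFinset.1 hP
      rcases hQ (show (⟨P, hP'.1.1⟩ : PrimeSpectrum A) ∈ PrimeSpectrum.zeroLocus (Q : Set A) from
        (PrimeSpectrum.mem_zeroLocus _ _).2 hP'.1.2) with h' | h'
      · exact (hfP h').elim
      · exact h'.2 r hr hPr hfr
  · exact (FaltingsAnnLib.killT_iff_equiv (FaltingsAnnLib.exists_H_equiv S m i).some _).1 (hk i hi _ (hn (by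
      rw [mul_pow, Ideal.span_singleton_pow]
      exact Ideal.mul_mem_mul ha (Ideal.mem_span_singleton_self _))))
  · exact (FaltingsAnnLib.killT_iff_equiv (FaltingsAnnLib.exists_H_equiv S m 1).some b).1 (hk₁ 1 le_rfl _ (ht hb))

end Groth.Agent.HyperGen
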