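import Groth.Agent.HyperAlg.Etale

/-!
Étaleness along a hypersurface cut out by an element which may be a zero divisor.
-/

set_option autoImplicit false
set_option linter.style.haveILetI false
set_option backward.isDefEq.respectTransparency false
set_option maxHeartbeats 1200000

universe u

open TensorProduct

noncomputable section

namespace Groth.Agent.HyperGen

open HyperAlg

/-- The annihilator of an element. -/
abbrev annOf {A : Type u} [CommRing A] (f : A) : Ideal A := LinearMap.ker (LinearMap.toSpanSingleton A A f)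

/-- A finite type algebra is étale at primes over which its reduction is étale and the torsion comes from the base. -/
theorem isEtaleAt_of_reduction {A B : Type u} [CommRing A] [IsNoetherianRing A] [CommRing B] [Algebra A B]
    [Algebra.FinitePresentation A B] (f : A) (a : B)
    [Module.Flat (A ⧸ Ideal.span {f})
      (Localization.Away a ⧸ (Ideal.span {f}).map (algebraMap A (Localization.Away a)))]
    [Algebra.FormallyUnramified A (Localization.Away a ⧸ (Ideal.span {f}).map (algebraMap A (Localization.Away a)))]
    (P : Ideal B) [P.IsPrime] (hfP : algebraMap A B f ∈ P) (haP : a ∉ P)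
    (hB : ∀ b : B, algebraMap A B f * b = 0 → ∃ s ∉ P, s * b ∈ (annOf f).map (algebraMap A B)) :
    Algebra.IsEtaleAt A P := by
  haveI : IsNoetherianRing B := Algebra.FiniteType.isNoetherianRing A B
  let Ba := Localization.Away a
  let C := Localization.AtPrime P
  let g : Ba →ₐ[B] C := IsLocalization.liftAlgHom (M := Submonoid.powers a) (f := Algebra.ofId B _) (by
    rintro ⟨_, n, rfl⟩
    simpa using (IsLocalization.map_units C (M := P.primeCompl) ⟨a, haP⟩).pow n)
  letI : Algebra Ba C := g.toRingHom.toAlgebra
  haveI : IsScalarTower B Ba C := IsScalarTower.of_algebraMap_eq fun b => (g.commutes b).symm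
  haveI : IsScalarTower A Ba C := IsScalarTower.of_algebraMap_eq fun r => by
    rw [IsScalarTower.algebraMap_apply A B C, IsScalarTower.algebraMap_apply B Ba C,
      ← IsScalarTower.algebraMap_apply A B Ba]
  haveI hloc : IsLocalization (Algebra.algebraMapSubmonoid Ba P.primeCompl) C :=
    IsLocalization.isLocalization_of_submonoid_le Ba C (Submonoid.powers a) P.primeCompl
      (by rintro _ ⟨n, rfl⟩; exact fun h => haP (Ideal.IsPrime.mem_of_pow_mem ‹_› n h))
  let I : Ideal A := Ideal.span {f}
  let J := I.map (algebraMap A Ba)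
  let J' := I.map (algebraMap A C)
  have hJ : J.map (algebraMap Ba C) = J' := by rw [Ideal.map_map, ← IsScalarTower.algebraMap_eq]
  have hmax : J' ≤ IsLocalRing.maximalIdeal C := by
    rw [Ideal.map_le_iff_le_comap, Ideal.span_le, Set.singleton_subset_iff]
    show algebraMap A C f ∈ IsLocalRing.maximalIdeal C
    rw [IsScalarTower.algebraMap_apply A B C]
    show algebraMap A B f ∈ Ideal.under B (IsLocalRing.maximalIdeal C)
    rw [IsLocalization.AtPrime.under_maximalIdeal C P]
    exact hfP
  let Q := Ba ⧸ J
  let Q' := C ⧸ J'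
  letI : Algebra Q Q' := (Ideal.quotientMap J' (algebraMap Ba C) (by rw [← hJ]; exact Ideal.le_comap_map)).toAlgebra
  haveI : IsScalarTower A Q Q' := IsScalarTower.of_algebraMap_eq (R := A) (S := Q) (A := Q') fun r =>
    congrArg (Ideal.Quotient.mk J') (IsScalarTower.algebraMap_apply A Ba C r)
  haveI : IsScalarTower (A ⧸ I) Q Q' := IsScalarTower.of_algebraMap_eq fun r => by
    obtain ⟨r, rfl⟩ := Ideal.Quotient.mk_surjective r
    exact congrArg (Ideal.Quotient.mk J') (IsScalarTower.algebraMap_apply A Ba C r)
  haveI : IsLocalization (Algebra.algebraMapSubmonoid Q (Algebra.algebraMapSubmonoid Ba P.primeCompl)) Q' := by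
    constructor
    constructor
    · rintro ⟨_, s, hs, rfl⟩
      exact (IsLocalization.map_units C ⟨s, hs⟩).map (Ideal.Quotient.mk J')
    · intro z
      obtain ⟨z, rfl⟩ := Ideal.Quotient.mk_surjective z
      obtain ⟨⟨x, s, hs⟩, hxs⟩ := IsLocalization.surj (Algebra.algebraMapSubmonoid Ba P.primeCompl) z
      exact ⟨⟨Ideal.Quotient.mk J x, _, s, hs, rfl⟩, congrArg (Ideal.Quotient.mk J') hxs⟩
    · intro x y hxy
      obtain ⟨x, rfl⟩ := Ideal.Quotient.mk_surjective x
      obtain ⟨y, rfl⟩ := Ideal.Quotient.mk_surjective y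
      have h : algebraMap Ba C (x - y) ∈ J.map (algebraMap Ba C) := by
        rw [hJ, map_sub]
        exact Ideal.Quotient.eq.1 hxy
      obtain ⟨⟨⟨w, hw⟩, ⟨s, hs⟩⟩, hws⟩ := (IsLocalization.mem_map_algebraMap_iff (Algebra.algebraMapSubmonoid Ba P.primeCompl) C).1 h
      rw [← map_mul] at hws
      obtain ⟨⟨d, hd⟩, hdeq⟩ := IsLocalization.exists_of_eq (M := Algebra.algebraMapSubmonoid Ba P.primeCompl) hws
      refine ⟨⟨_, d * s, mul_mem hd hs, rfl⟩, ?_⟩
      refine (map_mul (Ideal.Quotient.mk J) _ _).symm.trans ((Ideal.Quotient.eq.2 ?_).trans (map_mul _ _ _))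
      have : d * s * x - d * s * y = d * w := by
        rw [← hdeq]; ring
      rw [this]
      exact Ideal.mul_mem_left _ _ hw
  haveI : Algebra.FormallyUnramified Q Q' :=
    Algebra.FormallyUnramified.of_isLocalization (Algebra.algebraMapSubmonoid Q (Algebra.algebraMapSubmonoid Ba P.primeCompl))
  haveI : Algebra.FormallyUnramified A Q' := Algebra.FormallyUnramified.comp A Q Q'
  haveI : Module.Flat Q Q' := IsLocalization.flat Q' (Algebra.algebraMapSubmonoid Q (Algebra.algebraMapSubmonoid Ba P.primeCompl))
  haveI : Module.Flat (A ⧸ I) Q' := Module.Flat.trans (A ⧸ I) Q Q'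
  haveI : Algebra.EssFiniteType B C := Algebra.EssFiniteType.of_isLocalization C P.primeCompl
  haveI : Algebra.EssFiniteType A C := Algebra.EssFiniteType.comp A B C
  haveI : Algebra.IsUnramifiedAt A P :=
    formallyUnramified_of_quotient_jac (C := C) I (by rwa [IsLocalRing.jacobson_eq_maximalIdeal _ bot_ne_top])
  -- flatness
  let p := P.comap (algebraMap A B)
  let Ap := Localization.AtPrime p
  letI : Algebra Ap C := (Localization.localRingHom p P (algebraMap A B) rfl).toAlgebra
  haveI : IsScalarTower A Ap C := IsScalarTower.of_algebraMap_eq fun r =>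
    (Localization.localRingHom_to_map p P (algebraMap A B) rfl r).symm
  haveI : IsLocalHom (algebraMap Ap C) := Localization.isLocalHom_localRingHom p P (algebraMap A B) rfl
  haveI : IsNoetherianRing Ap := IsLocalization.isNoetherianRing p.primeCompl _ inferInstance
  haveI : IsNoetherianRing C := IsLocalization.isNoetherianRing P.primeCompl _ inferInstance
  let fp := algebraMap A Ap f
  have htor : ∀ c : C, algebraMap A C f * c = 0 → c ∈ (annOf f).map (algebraMap A C) := fun c hc => by
    obtain ⟨⟨x, t, ht⟩, hxt⟩ := IsLocalization.surj P.primeCompl c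
    have h0 : algebraMap B C (algebraMap A B f * x) = 0 := by
      rw [map_mul, ← hxt, ← IsScalarTower.algebraMap_apply A B C, ← mul_assoc, hc, zero_mul]
    obtain ⟨⟨v, hv⟩, hv0⟩ := (IsLocalization.map_eq_zero_iff P.primeCompl C _).1 h0
    obtain ⟨s, hs, hsb⟩ := hB (v * x) (by rw [mul_left_comm]; exact hv0)
    have h1 := Ideal.mem_map_of_mem (algebraMap B C) hsb
    rw [Ideal.map_map, ← IsScalarTower.algebraMap_eq, map_mul, map_mul, ← hxt, ← mul_assoc,
      Ideal.unit_mul_mem_iff_mem _ ((IsLocalization.map_units C (M := P.primeCompl) ⟨s, hs⟩).mul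
        (IsLocalization.map_units C (M := P.primeCompl) ⟨v, hv⟩)),
      Ideal.mul_unit_mem_iff_mem _ (IsLocalization.map_units C (M := P.primeCompl) ⟨t, ht⟩)] at h1
    exact h1
  haveI hflatC : Module.Flat Ap C := by
    refine S0391.result (S := C) (Ideal.span {fp}) ?_ ?_ ?_
    · rw [Ne, Ideal.span_singleton_eq_top]
      intro hu
      have := hu.map (algebraMap Ap C)
      rw [← IsScalarTower.algebraMap_apply] at this
      exact (hmax (Ideal.mem_map_of_mem _ (Ideal.mem_span_singleton_self f))) this
    · let e0 : Ap →ₗ[Ap] Ideal.span {fp} :=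
        LinearMap.toSpanSingleton Ap _ ⟨fp, Ideal.mem_span_singleton_self fp⟩
      have he0 : Function.Surjective e0 := by
        rintro ⟨x, hx⟩
        obtain ⟨r, rfl⟩ := Ideal.mem_span_singleton'.1 hx
        exact ⟨r, Subtype.ext rfl⟩
      refine (injective_iff_map_eq_zero _).2 fun z hz => ?_
      obtain ⟨w, rfl⟩ := LinearMap.rTensor_surjective C he0 z
      obtain ⟨c, rfl⟩ := (TensorProduct.lid Ap C).symm.surjective w
      rw [TensorProduct.lid_symm_apply, LinearMap.rTensor_tmul, LinearMap.rTensor_tmul] at hz
      have hz' := congrArg (TensorProduct.lid Ap C) hz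
      rw [TensorProduct.lid_tmul, map_zero] at hz'
      have h1 : fp • c = 0 := by simpa [e0] using hz'
      rw [algebraMap_smul] at h1
      have h2 : c ∈ (annOf f).map (algebraMap A C) := htor c (by rw [← Algebra.smul_def]; exact h1)
      let ψ : C →ₗ[Ap] _ := (LinearMap.rTensor C e0).comp (TensorProduct.lid Ap C).symm.toLinearMap
      show ψ c = 0
      refine (congrArg ψ (one_mul c).symm).trans (Submodule.span_induction (p := fun x _ => ∀ c' : C, ψ (c' * x) = 0) ?_ (fun c' => by rw [mul_zero, map_zero])
        (fun x y _ _ hx hy c' => by rw [mul_add, map_add, hx, hy, add_zero])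
        (fun r x _ hx c' => by rw [smul_eq_mul, ← mul_assoc]; exact hx _) (show c ∈ Ideal.span ((algebraMap A C) '' (annOf f : Set A)) from h2) 1)
      rintro _ ⟨r, hr, rfl⟩ c'
      rw [mul_comm, ← Algebra.smul_def, ← algebraMap_smul Ap, map_smul]
      show algebraMap A Ap r • LinearMap.rTensor C e0 ((1 : Ap) ⊗ₜ[Ap] c') = 0
      rw [LinearMap.rTensor_tmul, TensorProduct.smul_tmul', ← map_smul,
        show algebraMap A Ap r • (1 : Ap) = algebraMap A Ap r by rw [smul_eq_mul, mul_one],
        show e0 (algebraMap A Ap r) = 0 from Subtype.ext (by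
          show algebraMap A Ap r * algebraMap A Ap f = 0
          rw [← map_mul, show r * f = 0 from hr, map_zero]), TensorProduct.zero_tmul]
    · let N := C ⧸ (Ideal.span {fp} • (⊤ : Submodule Ap C))
      have hN : (Ideal.span {fp} • (⊤ : Submodule Ap C)).restrictScalars A = J'.restrictScalars A := by
        ext x
        rw [Submodule.restrictScalars_mem, Submodule.restrictScalars_mem, Submodule.ideal_span_singleton_smul,
          Submodule.mem_smul_pointwise_iff_exists,
          show J' = Ideal.span {algebraMap A C f} by simp only [J', I, Ideal.map_span, Set.image_singleton], Ideal.mem_span_singleton']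
        constructor
        · rintro ⟨y, -, rfl⟩
          exact ⟨y, by rw [algebraMap_smul, Algebra.smul_def, mul_comm]⟩
        · rintro ⟨y, rfl⟩
          exact ⟨y, trivial, by rw [algebraMap_smul, Algebra.smul_def, mul_comm]⟩
      let Ib := Ideal.span {fp}
      letI : Algebra (A ⧸ I) (Ap ⧸ Ib) := (Ideal.quotientMap Ib (algebraMap A Ap) (by
        rw [Ideal.span_le, Set.singleton_subset_iff]
        exact Ideal.mem_span_singleton_self fp)).toAlgebra
      letI : Module (A ⧸ I) N := Module.compHom N (algebraMap (A ⧸ I) (Ap ⧸ Ib))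
      haveI : IsScalarTower (A ⧸ I) (Ap ⧸ Ib) N := IsScalarTower.of_algebraMap_smul fun _ _ => rfl
      haveI : IsScalarTower A (A ⧸ I) N := IsScalarTower.of_algebraMap_smul fun r x => by
        obtain ⟨x, rfl⟩ := Submodule.Quotient.mk_surjective _ x
        show Ideal.Quotient.mk Ib (algebraMap A Ap r) • (Submodule.Quotient.mk x : N) = r • Submodule.Quotient.mk x
        exact congrArg Submodule.Quotient.mk (algebraMap_smul Ap r x)
      haveI : Module.Flat (A ⧸ I) N := by
        let e : N ≃ₗ[A] Q' := ((Submodule.Quotient.restrictScalarsEquiv A _).symm.trans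
          (Submodule.quotEquivOfEq _ _ hN)).trans (Submodule.Quotient.restrictScalarsEquiv A J')
        exact Module.Flat.of_linearEquiv (e.extendScalarsOfSurjective (S := A ⧸ I) Ideal.Quotient.mk_surjective)
      haveI : Module.Flat (Ap ⧸ Ib) N := flat_of_fractions (R₁ := A ⧸ I) fun r => by
        obtain ⟨z, rfl⟩ := Ideal.Quotient.mk_surjective r
        obtain ⟨⟨b, s, hs⟩, hbs⟩ := IsLocalization.surj p.primeCompl z
        refine ⟨Ideal.Quotient.mk I b, Ideal.Quotient.mk I s,
          (IsLocalization.map_units Ap (M := p.primeCompl) ⟨s, hs⟩).map (Ideal.Quotient.mk Ib), ?_⟩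
        show Ideal.Quotient.mk Ib (algebraMap A Ap s) * Ideal.Quotient.mk Ib z = Ideal.Quotient.mk Ib (algebraMap A Ap b)
        rw [← map_mul, mul_comm]
        exact congrArg _ hbs
      exact Module.Flat.of_linearEquiv
        ((TensorProduct.quotTensorEquivQuotSMul C Ib).extendScalarsOfSurjective (S := Ap ⧸ Ib) Ideal.Quotient.mk_surjective)
  haveI : Module.Flat A Ap := IsLocalization.flat Ap p.primeCompl
  haveI : Module.Flat A C := Module.Flat.trans A Ap C
  exact CMFlatLib.isEtaleAt_of_unramified_flat P

end Groth.Agent.HyperGen
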