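import Groth.Agent.HyperAlg.Main
import Groth.Agent.HyperGen.Etale

/-!
Cartesianness and étaleness of a finite algebra whose kernel onto the first level is only locally
generated by the equation.
-/

set_option autoImplicit false
set_option linter.style.haveILetI false
set_option backward.isDefEq.respectTransparency false
set_option backward.isDefEq.respectTransparency.types false
set_option maxHeartbeats 1000000

universe u

open CategoryTheory CategoryTheory.Limits AlgebraicGeometry TopologicalSpace Opposite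

noncomputable section

namespace Groth.Agent.HyperGen

open HyperAlg

variable {A : Type u} [CommRing A] [IsNoetherianRing A] {ι : Type u} [Finite ι] (g : ι → A) {f : A}
  {U : (Spec (CommRingCat.of A)).Opens} (hU : U = ⨆ j, PrimeSpectrum.basicOpen (g j)) (L : Levels f U)
  {B : Type u} [CommRing B] [Algebra A B] (π : B →ₐ[A] Gam (L.q 0))
  (hker : ∀ x, π x = 0 → ∀ j, ∃ (k : ℕ) (y : B), f • y = g j ^ k • x)
  (hsurj : ∀ j y, ∃ k x, π x = g j ^ k • y)

include hU hker hsurj in
theorem piece_quot (j : ι) :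
    (∀ y : Gam ((piece (L.q 0) (g j)).ι ≫ L.q 0), ∃ k b, resP (L.q 0) (g j) (π b) = g j ^ k • y) ∧
      ∀ b, resP (L.q 0) (g j) (π b) = 0 → ∃ k, g j ^ k • b ∈ Jf f B := by
  obtain ⟨_, _⟩ := L.compactSpace g hU 0
  refine ⟨fun y => ?_, fun b hb => ?_⟩
  · obtain ⟨k, z, hz⟩ := (res_piece_loc (L.q 0) (g j)).1 y
    obtain ⟨l, b, hb⟩ := hsurj j z
    exact ⟨l + k, b, by rw [hb, map_smul, hz, pow_add, mul_smul]⟩
  · obtain ⟨k, hk⟩ := (res_piece_loc (L.q 0) (g j)).2 _ hb
    rw [← map_smul] at hk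
    obtain ⟨l, y, hy⟩ := hker _ hk j
    exact ⟨l + k, mem_Jf.2 ⟨y, by rw [zero_add, pow_one, hy, pow_add, mul_smul]⟩⟩

include hU hker hsurj in
theorem isIso_psi_restrict (j : ι) : IsIso (L.psi π ∣_ piece (tJ f B) (g j)) := by
  obtain ⟨_, _⟩ := L.compactSpace g hU 0
  haveI : QuasiSeparatedSpace (Spec (CommRingCat.of (B ⧸ Jf f B))) := inferInstance
  let D := piece (tJ f B) (g j)
  let W := L.psi π ⁻¹ᵁ D
  have hW : W = piece (L.q 0) (g j) := by
    show L.psi π ⁻¹ᵁ tJ f B ⁻¹ᵁ _ = L.q 0 ⁻¹ᵁ _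
    rw [← Scheme.Hom.comp_preimage, L.psi_comp π]
  haveI : IsAffine D.toScheme := (IsAffineOpen.Spec_basicOpen (R := CommRingCat.of A) (g j)).preimage (tJ f B)
  haveI : IsAffine W.toScheme := by rw [hW]; exact L.isAffineOpen_piece g hU 0 j
  let resW : Gam (L.q 0) →ₐ[A] Gam (W.ι ≫ L.q 0) := gamMap W.ι rfl
  obtain ⟨hs, hk, hu⟩ :
      (∀ y : Gam (W.ι ≫ L.q 0), ∃ k b, resW (π b) = g j ^ k • y) ∧
        (∀ b, resW (π b) = 0 → ∃ k, g j ^ k • b ∈ Jf f B) ∧
        IsUnit (algebraMap A (Gam (W.ι ≫ L.q 0)) (g j)) := by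
    have key : ∀ (W' : (L.X 0).Opens), W' = piece (L.q 0) (g j) →
        (∀ y : Gam (W'.ι ≫ L.q 0), ∃ k b, (gamMap W'.ι rfl : Gam (L.q 0) →ₐ[A] _) (π b) = g j ^ k • y) ∧
        (∀ b, (gamMap W'.ι rfl : Gam (L.q 0) →ₐ[A] Gam (W'.ι ≫ L.q 0)) (π b) = 0 → ∃ k, g j ^ k • b ∈ Jf f B) ∧
        IsUnit (algebraMap A (Gam (W'.ι ≫ L.q 0)) (g j)) := by
      rintro W' rfl
      exact ⟨(piece_quot g hU L π hker hsurj j).1, (piece_quot g hU L π hker hsurj j).2, isUnit_piece _ _⟩
    exact key W hW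
  have hφ : (L.psi π ∣_ D) ≫ D.ι ≫ tJ f B = W.ι ≫ L.q 0 := by
    rw [morphismRestrict_ι_assoc, L.psi_comp π]
  let φ : Gam (D.ι ≫ tJ f B) →ₐ[A] Gam (W.ι ≫ L.q 0) := gamMap (L.psi π ∣_ D) hφ
  let Ψ : Gam (tJ f B) →ₐ[A] Gam (L.q 0) := gamMap (L.psi π) (L.psi_comp π)
  let mkB : B →ₐ[A] Gam (tJ f B) :=
    { toRingHom := (Scheme.ΓSpecIso (CommRingCat.of (B ⧸ Jf f B))).inv.hom.comp (Ideal.Quotient.mk (Jf f B))
      commutes' := fun a => congr($(Scheme.ΓSpecIso_inv_naturality (CommRingCat.ofHom (algebraMap A (B ⧸ Jf f B)))) a) }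
  have hmkB : Function.Surjective mkB :=
    (ConcreteCategory.bijective_of_isIso (Scheme.ΓSpecIso (CommRingCat.of (B ⧸ Jf f B))).inv).surjective.comp
      Ideal.Quotient.mk_surjective
  have hmkB0 : ∀ b ∈ Jf f B, mkB b = 0 := fun b hb => by
    show (Scheme.ΓSpecIso (CommRingCat.of (B ⧸ Jf f B))).inv.hom (Ideal.Quotient.mk (Jf f B) b) = 0
    rw [Ideal.Quotient.eq_zero_iff_mem.2 hb, map_zero]
  have hΨ : ∀ b, Ψ (mkB b) = π b := fun b => by
    show (L.psi π).appTop ((Scheme.ΓSpecIso (CommRingCat.of (B ⧸ Jf f B))).inv (Ideal.Quotient.mk (Jf f B) b)) = π b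
    rw [L.psi_appTop π, ← CategoryTheory.comp_apply, Iso.inv_hom_id_assoc]
    rfl
  have hcomm : ∀ z, φ (resP (tJ f B) (g j) z) = resW (Ψ z) := fun z => by
    show (L.psi π ∣_ D).appTop (D.ι.appTop z) = W.ι.appTop ((L.psi π).appTop z)
    rw [← CategoryTheory.comp_apply, ← CategoryTheory.comp_apply, ← Scheme.Hom.comp_appTop, ← Scheme.Hom.comp_appTop,
      morphismRestrict_ι]
  have huD := isUnit_piece (tJ f B) (g j)
  have hbij : Function.Bijective φ := by
    refine ⟨(injective_iff_map_eq_zero φ).2 fun x hx => ?_, fun y => ?_⟩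
    · obtain ⟨k, z, hz⟩ := (res_piece_loc (tJ f B) (g j)).1 x
      obtain ⟨b, rfl⟩ := hmkB z
      have h0 := congrArg φ hz
      rw [map_smul, hx, smul_zero, hcomm, hΨ] at h0
      obtain ⟨l, hl⟩ := hk b h0
      have h1 : g j ^ (l + k) • x = 0 := by
        rw [pow_add, mul_smul, ← hz, ← map_smul, ← map_smul, hmkB0 _ hl, map_zero]
      rw [Algebra.smul_def, map_pow] at h1
      exact (huD.pow (l + k)).mul_right_eq_zero.1 h1
    · obtain ⟨k, b, hb⟩ := hs y
      refine ⟨(↑(huD.pow k).unit⁻¹ : Gam (D.ι ≫ tJ f B)) * resP (tJ f B) (g j) (mkB b), ?_⟩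
      refine (hu.pow k).mul_left_cancel ?_
      rw [← map_pow, ← φ.commutes, ← map_mul, ← mul_assoc, map_pow, IsUnit.mul_val_inv, one_mul, hcomm, hΨ, hb,
        map_pow φ, φ.commutes, Algebra.smul_def, map_pow]
  haveI : IsIso (L.psi π ∣_ D).appTop := (ConcreteCategory.isIso_iff_bijective _).2 hbij
  exact (HasAffineProperty.iff_of_isAffine (P := MorphismProperty.isomorphisms Scheme.{u})).2
    ⟨inferInstanceAs (IsAffine W.toScheme), ‹_›⟩

include hU hker hsurj in
theorem isOpenImmersion_psi :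
    IsOpenImmersion (L.psi π) ∧ Set.range (L.psi π) = tJ f B ⁻¹' U := by
  let V := tJ f B ⁻¹ᵁ U
  have hpre : L.psi π ⁻¹ᵁ V = ⊤ := by
    show L.psi π ⁻¹ᵁ tJ f B ⁻¹ᵁ U = ⊤
    rw [← Scheme.Hom.comp_preimage, L.psi_comp π]
    exact TopologicalSpace.Opens.ext (Set.eq_univ_of_forall fun x => (L.π 0 x).2)
  haveI : IsIso (L.psi π ∣_ V) := by
    refine (IsZariskiLocalAtTarget.iff_of_iSup_eq_top (P := MorphismProperty.isomorphisms Scheme.{u})
      (fun j => V.ι ⁻¹ᵁ piece (tJ f B) (g j)) ?_).2 fun j => ?_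
    · refine TopologicalSpace.Opens.ext (Set.eq_univ_of_forall fun y => ?_)
      have hy : tJ f B y.1 ∈ ⨆ j, PrimeSpectrum.basicOpen (g j) := hU.le y.2
      obtain ⟨j, hj⟩ := TopologicalSpace.Opens.mem_iSup.1 hy
      exact TopologicalSpace.Opens.mem_iSup.2 ⟨j, hj⟩
    · refine (MorphismProperty.arrow_mk_iso_iff (MorphismProperty.isomorphisms Scheme.{u})
        (morphismRestrictRestrict (L.psi π) V _ ≪≫ morphismRestrictEq (L.psi π) ?_)).2
        (isIso_psi_restrict g hU L π hker hsurj j)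
      rw [Scheme.Hom.image_preimage_eq_opensRange_inf, Scheme.Opens.opensRange_ι]
      refine inf_eq_right.2 fun y hy => ?_
      show tJ f B y ∈ U
      rw [hU]
      exact TopologicalSpace.Opens.mem_iSup.2 ⟨j, hy⟩
  haveI : IsIso (L.psi π ⁻¹ᵁ V).ι := by
    rw [hpre]
    exact inferInstanceAs (IsIso (L.X 0).topIso.hom)
  haveI hoi : IsOpenImmersion (L.psi π) := by
    refine (MorphismProperty.cancel_left_of_respectsIso @IsOpenImmersion (L.psi π ⁻¹ᵁ V).ι (L.psi π)).1 ?_
    rw [← morphismRestrict_ι]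
    infer_instance
  refine ⟨hoi, Set.Subset.antisymm ?_ fun y hy => ?_⟩
  · rintro _ ⟨x, rfl⟩
    exact (show x ∈ L.psi π ⁻¹ᵁ V by rw [hpre]; trivial)
  · obtain ⟨x, hx⟩ := (L.psi π ∣_ V).surjective ⟨y, hy⟩
    refine ⟨x.1, ?_⟩
    have := congrArg V.ι hx
    rwa [← Scheme.Hom.comp_apply, morphismRestrict_ι, Scheme.Hom.comp_apply] at this

include hU hker hsurj in
/-- The first level is the base change of the limit algebra. -/
theorem isPullback_limit :
    IsPullback (L.psi π ≫ Spec.map (CommRingCat.ofHom (Ideal.Quotient.mk (Jf f B))))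
      (pullback.lift (L.π 0) (L.a 0) (L.w 0).symm)
      (Spec.map (CommRingCat.ofHom (algebraMap A B))) (pullback.fst U.ι (qn f 0) ≫ U.ι) := by
  obtain ⟨hoi, hrange⟩ := isOpenImmersion_psi g hU L π hker hsurj
  let t₁ : Spec (CommRingCat.of (B ⧸ Jf f B)) ⟶ Spec (CommRingCat.of (A ⧸ Ideal.span {f ^ (0 + 1)})) :=
    Spec.map (CommRingCat.ofHom (Ideal.quotientMap (Jf f B) (algebraMap A B) Ideal.le_comap_map))
  have ht : t₁ ≫ qn f 0 = tJ f B := by
    rw [← Spec.map_comp]
    rfl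
  have hR : IsPullback (Spec.map (CommRingCat.ofHom (Ideal.Quotient.mk (Jf f B)))) t₁
      (Spec.map (CommRingCat.ofHom (algebraMap A B))) (qn f 0) :=
    isPullback_SpecMap_of_isPushout _ _ _ _ (isPushout_quotient (B := B) (Ideal.span {f ^ (0 + 1)}))
  haveI : IsClosedImmersion (qn f 0) := IsClosedImmersion.spec_of_surjective _ Ideal.Quotient.mk_surjective
  have hL : IsPullback (L.psi π) (pullback.lift (L.π 0) (L.a 0) (L.w 0).symm) t₁ (pullback.snd U.ι (qn f 0)) := by
    refine (IsOpenImmersion.isPullback _ _ _ _ ?_ ?_).flip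
    · rw [← cancel_mono (qn f 0), Category.assoc, ht, L.psi_comp π, pullback.lift_snd, L.w]
    · refine TopologicalSpace.Opens.ext (Eq.trans (Set.ext fun y => ?_) hrange.symm)
      show t₁ y ∈ Set.range (pullback.snd U.ι (qn f 0)) ↔ tJ f B y ∈ U
      rw [IsOpenImmersion.range_pullbackSnd, ← ht]
      show qn f 0 (t₁ y) ∈ U.ι.opensRange ↔ _
      rw [Scheme.Opens.opensRange_ι]
      rfl
  have := hL.paste_horiz hR
  rwa [← pullback.condition] at this

include hU hker hsurj in
/-- The limit algebra is étale over the hypersurface away from the closed set. -/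
theorem isEtaleAt [Module.Finite A B] [AlgebraicGeometry.FormallyUnramified (L.q 0)]
    (P : Ideal B) [P.IsPrime] (hfP : algebraMap A B f ∈ P) (j : ι) (hgP : algebraMap A B (g j) ∉ P)
    (htor : ∀ b : B, f • b = 0 → ∃ s ∉ P, s * b ∈ (annOf f).map (algebraMap A B)) :
    Algebra.IsEtaleAt A P := by
  let a := algebraMap A B (g j)
  let W := Gam ((piece (L.q 0) (g j)).ι ≫ L.q 0)
  let θ₀ : B →ₐ[A] W := (resP (L.q 0) (g j)).comp π
  have hθ₀ : IsUnit (θ₀ a) := by rw [θ₀.commutes]; exact isUnit_piece _ _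
  let θ : Localization.Away a →ₐ[A] W :=
    { toRingHom := IsLocalization.Away.lift a (g := θ₀.toRingHom) hθ₀
      commutes' := fun r => by
        show IsLocalization.Away.lift a (g := θ₀.toRingHom) hθ₀ (algebraMap A (Localization.Away a) r) = _
        rw [IsScalarTower.algebraMap_apply A B (Localization.Away a), IsLocalization.Away.lift_eq]
        exact θ₀.commutes r }
  have hθ : ∀ b, θ (algebraMap B _ b) = θ₀ b := fun b => IsLocalization.Away.lift_eq a hθ₀ b
  have hua : ∀ k : ℕ, IsUnit (algebraMap A (Localization.Away a) (g j) ^ k) := fun k => by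
    rw [IsScalarTower.algebraMap_apply A B (Localization.Away a)]
    exact (IsLocalization.Away.algebraMap_isUnit a).pow k
  have hs : Function.Surjective θ := fun y => by
    obtain ⟨k, b, hb⟩ := (piece_quot g hU L π hker hsurj j).1 y
    refine ⟨(↑(hua k).unit⁻¹ : Localization.Away a) * algebraMap B _ b, ?_⟩
    refine ((isUnit_piece (L.q 0) (g j)).pow k).mul_left_cancel ?_
    rw [← θ.commutes, ← map_pow θ, ← map_mul, ← mul_assoc, IsUnit.mul_val_inv, one_mul, hθ, map_pow θ, θ.commutes,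
      ← map_pow, ← Algebra.smul_def]
    exact hb
  have hk : (Ideal.span {f ^ (0 + 1)}).map (algebraMap A (Localization.Away a)) = RingHom.ker θ := by
    refine le_antisymm (Ideal.map_le_iff_le_comap.2 fun r hr => ?_) fun z hz => ?_
    · obtain ⟨c, rfl⟩ := Ideal.mem_span_singleton'.1 hr
      show θ (algebraMap A (Localization.Away a) (c * f ^ (0 + 1))) = 0
      rw [IsScalarTower.algebraMap_apply A B (Localization.Away a), hθ]
      show resP (L.q 0) (g j) (π _) = 0
      rw [L.map_Jf π (Ideal.mem_map_of_mem _ hr), map_zero]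
    · obtain ⟨k, b, hb⟩ := IsLocalization.Away.surj a z
      have h0 : θ₀ b = 0 := by rw [← hθ, ← hb, map_mul, show θ z = 0 from hz, zero_mul]
      obtain ⟨l, hl⟩ := (piece_quot g hU L π hker hsurj j).2 b h0
      have h1 := Ideal.mem_map_of_mem (algebraMap B (Localization.Away a)) hl
      rw [Jf, Ideal.map_map, ← IsScalarTower.algebraMap_eq, Algebra.smul_def, map_mul, map_pow, map_pow,
        Ideal.unit_mul_mem_iff_mem _ ((IsLocalization.Away.algebraMap_isUnit a).pow l), ← hb,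
        Ideal.mul_unit_mem_iff_mem _ ((IsLocalization.Away.algebraMap_isUnit a).pow k)] at h1
      exact h1
  let e : (Localization.Away a ⧸ (Ideal.span {f ^ (0 + 1)}).map (algebraMap A (Localization.Away a))) ≃ₐ[A] W :=
    (Ideal.quotientEquivAlgOfEq A hk).trans (Ideal.quotientKerAlgEquivOfSurjective hs)
  letI : Algebra (A ⧸ Ideal.span {f ^ (0 + 1)}) W := L.algQuot 0 (g j)
  haveI : IsScalarTower A (A ⧸ Ideal.span {f ^ (0 + 1)}) W := L.algQuot_tower 0 (g j)
  haveI : Module.Flat (A ⧸ Ideal.span {f ^ (0 + 1)}) W := L.flat_piece g hU 0 j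
  haveI : Module.Flat (A ⧸ Ideal.span {f ^ (0 + 1)})
      (Localization.Away a ⧸ (Ideal.span {f ^ (0 + 1)}).map (algebraMap A (Localization.Away a))) :=
    Module.Flat.of_linearEquiv (e.toLinearEquiv.extendScalarsOfSurjective
      (S := A ⧸ Ideal.span {f ^ (0 + 1)}) Ideal.Quotient.mk_surjective)
  haveI : Algebra.FormallyUnramified A W := by
    haveI : IsAffine (piece (L.q 0) (g j)).toScheme := L.isAffineOpen_piece g hU 0 j
    have h := HasRingHomProperty.appTop (P := @AlgebraicGeometry.FormallyUnramified)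
      ((piece (L.q 0) (g j)).ι ≫ L.q 0)
      (MorphismProperty.comp_mem @AlgebraicGeometry.FormallyUnramified _ _ inferInstance inferInstance)
    exact RingHom.formallyUnramified_algebraMap.1 (RingHom.FormallyUnramified.respectsIso.2 _
      (Scheme.ΓSpecIso (CommRingCat.of A)).symm.commRingCatIsoToRingEquiv h)
  haveI : Algebra.FormallyUnramified A
      (Localization.Away a ⧸ (Ideal.span {f ^ (0 + 1)}).map (algebraMap A (Localization.Away a))) :=
    Algebra.FormallyUnramified.of_equiv e.symm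
  haveI : Algebra.FinitePresentation A B := Algebra.FinitePresentation.of_finiteType.1 inferInstance
  refine isEtaleAt_of_reduction (f ^ (0 + 1)) a P ?_ hgP ?_
  · rw [map_pow]
    exact Ideal.pow_mem_of_mem _ hfP _ (Nat.succ_pos 0)
  · rw [zero_add, pow_one]
    intro b hb
    exact htor b (by rw [Algebra.smul_def]; exact hb)

end Groth.Agent.HyperGen
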