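import Groth.Agent.HyperAlg.Closed
import Groth.Agent.LocCohLib.FiniteTest
import Groth.Agent.LocCohLib.Torsion

/-!
Classes of one-step lifting problems in local cohomology, elementwise: if a scalar annihilates the map
induced on `H^1` resp. `H^2` by a linear map, the corresponding lifting problems become solvable.
-/

set_option autoImplicit false
set_option linter.style.haveILetI false
set_option backward.isDefEq.respectTransparency false
set_option maxHeartbeats 1000000
set_option maxRecDepth 3000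

universe u

open CategoryTheory

noncomputable section

namespace Groth.Agent.HyperGen

open PuncSecLib

variable {A : Type u} [CommRing A] [IsNoetherianRing A] (𝔞 : Ideal A)

/-- The scalar `a` annihilates the map induced by `φ` on the `i`-th local cohomology. -/
def Kills {N N' : Type u} [AddCommGroup N] [Module A N] [AddCommGroup N'] [Module A N']
    (i : ℕ) (φ : N →ₗ[A] N') (a : A) : Prop :=
  ∀ z : LocCoh.H 𝔞 i N, a • ((localCohomology 𝔞 i).map (ModuleCat.ofHom φ)).hom z = 0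

variable {𝔞}

/-- An embedding into an injective module, with its cokernel sequence. -/
structure Emb (N : Type u) [AddCommGroup N] [Module A N] where
  E : ModuleCat.{u} A
  ι : N →ₗ[A] E
  inj : Module.Injective A E
  injective : Function.Injective ι

theorem nonempty_emb (N : Type u) [AddCommGroup N] [Module A N] : Nonempty (Emb (A := A) N) :=
  (exists_embedding (A := A) N).elim fun E ⟨ι, hE, hι⟩ => ⟨⟨E, ι, hE, hι⟩⟩

variable {N N' : Type u} [AddCommGroup N] [Module A N] [AddCommGroup N'] [Module A N']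

/-- The cokernel. -/
abbrev Emb.C (e : Emb (A := A) N) : Type u := ↥e.E ⧸ LinearMap.range e.ι

theorem Emb.hex (e : Emb (A := A) N) : LinearMap.range e.ι = LinearMap.ker (LinearMap.range e.ι).mkQ :=
  (Submodule.ker_mkQ _).symm

theorem Emb.shortExact (e : Emb (A := A) N) : (mseq e.hex).ShortExact where
  exact := ShortComplex.Exact.moduleCat_of_range_eq_ker _ _ e.hex
  mono_f := (ModuleCat.mono_iff_injective _).2 e.injective
  epi_g := (ModuleCat.epi_iff_surjective _).2 (Submodule.mkQ_surjective _)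

/-- The connecting map of an embedding. -/
abbrev Emb.δ (e : Emb (A := A) N) (i : ℕ) : LocCoh.H 𝔞 i e.C →ₗ[A] LocCoh.H 𝔞 (i + 1) N :=
  LocCohLib.δ 𝔞 e.shortExact i

theorem exists_extend (e : Emb (A := A) N) (e' : Emb (A := A) N') (φ : N →ₗ[A] N') :
    ∃ (Φ : e.E →ₗ[A] e'.E) (ψ : e.C →ₗ[A] e'.C), (∀ n, Φ (e.ι n) = e'.ι (φ n)) ∧
      ∀ x, ψ (Submodule.Quotient.mk x) = Submodule.Quotient.mk (Φ x) := by
  haveI := e'.inj
  obtain ⟨Φ, hΦ⟩ := Module.Injective.out e.ι e.injective (e'.ι.comp φ)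
  refine ⟨Φ, Submodule.mapQ _ _ Φ ?_, hΦ, fun x => rfl⟩
  rintro _ ⟨n, rfl⟩
  exact ⟨φ n, (hΦ n).symm⟩

theorem δ_comm (e : Emb (A := A) N) (e' : Emb (A := A) N') (φ : N →ₗ[A] N') (Φ : e.E →ₗ[A] e'.E)
    (ψ : e.C →ₗ[A] e'.C) (h1 : ∀ n, Φ (e.ι n) = e'.ι (φ n))
    (h2 : ∀ x, ψ (Submodule.Quotient.mk x) = Submodule.Quotient.mk (Φ x)) (i : ℕ) (z : LocCoh.H 𝔞 i e.C) :
    ((localCohomology 𝔞 (i + 1)).map (ModuleCat.ofHom φ)).hom (e.δ i z) =
      e'.δ i (((localCohomology 𝔞 i).map (ModuleCat.ofHom ψ)).hom z) :=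
  LocCohLib.δ_naturality 𝔞 e.shortExact e'.shortExact
    (ShortComplex.homMk (S₁ := mseq e.hex) (S₂ := mseq e'.hex) (ModuleCat.ofHom φ) (ModuleCat.ofHom Φ)
      (ModuleCat.ofHom ψ) (ModuleCat.hom_ext (LinearMap.ext fun n => (h1 n).symm))
      (ModuleCat.hom_ext (LinearMap.ext fun x => (h2 x).symm))) i z

/-- A torsion class killed by the connecting map comes from a torsion element of the injective module. -/
theorem exists_torsion_of_δ (e : Emb (A := A) N) (z : LocCoh.H 𝔞 0 e.C) (hz : e.δ 0 z = 0) :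
    ∃ x : e.E, x ∈ DRing.torsionSub 𝔞 e.E ∧
      Submodule.Quotient.mk x = LocCohLib.h0 𝔞 (ModuleCat.of A e.C) z := by
  obtain ⟨v, hv⟩ := LocCohLib.exists_of_δ_eq_zero 𝔞 e.shortExact 0 z hz
  refine ⟨LocCohLib.h0 𝔞 _ v, ?_, ?_⟩
  · exact (LocCohLib.range_h0 (I := 𝔞) (M := (mseq e.hex).X₂)).le (LinearMap.mem_range_self _ v)
  · exact (LocCohLib.h0_map (mseq e.hex).g v).symm.trans (congrArg (LocCohLib.h0 𝔞 _) hv)

theorem exists_h0 {M : Type u} [AddCommGroup M] [Module A M] {t : M} (ht : t ∈ DRing.torsionSub 𝔞 M) :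
    ∃ z : LocCoh.H 𝔞 0 M, LocCohLib.h0 𝔞 (ModuleCat.of A M) z = t := by
  rw [← LocCohLib.range_h0 (I := 𝔞) (M := ModuleCat.of A M)] at ht
  exact ht

/-- Degree one: partially defined elements become defined after `a`. -/
theorem exists_elt_of_kills {φ : N →ₗ[A] N'} {a : A} (hk : Kills 𝔞 1 φ a) (K : ℕ) (v : ↥(𝔞 ^ K) →ₗ[A] N) :
    ∃ (M : ℕ) (z : N'), ∀ (b : A) (hb : b ∈ 𝔞 ^ M) (c : A) (hc : c ∈ 𝔞 ^ K),
      b • a • φ (v ⟨c, hc⟩) = b • c • z := by
  obtain ⟨e⟩ := nonempty_emb (A := A) N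
  obtain ⟨e'⟩ := nonempty_emb (A := A) N'
  obtain ⟨Φ, ψ, h1, h2⟩ := exists_extend e e' φ
  haveI := e.inj
  obtain ⟨w, hw⟩ := Module.Injective.out (Submodule.subtype (𝔞 ^ K)) (Submodule.injective_subtype _) (e.ι.comp v)
  have hx : ∀ c (hc : c ∈ 𝔞 ^ K), c • w 1 = e.ι (v ⟨c, hc⟩) := fun c hc => by
    rw [← map_smul, smul_eq_mul, mul_one]
    exact hw ⟨c, hc⟩
  obtain ⟨z₀, hz₀⟩ := exists_h0 (𝔞 := 𝔞) (t := (Submodule.Quotient.mk (w 1) : e.C)) ⟨K, fun c hc => by
    rw [← Submodule.Quotient.mk_smul, hx c hc]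
    exact (Submodule.Quotient.mk_eq_zero _).2 (LinearMap.mem_range_self _ _)⟩
  have h0 : e'.δ 0 (a • ((localCohomology 𝔞 0).map (ModuleCat.ofHom ψ)).hom z₀) = 0 := by
    rw [map_smul, ← δ_comm e e' φ Φ ψ h1 h2 0 z₀]
    exact hk _
  obtain ⟨x₀, ⟨M, hM⟩, hx₀⟩ := exists_torsion_of_δ e' _ h0
  rw [map_smul, LocCohLib.h0_map, hz₀] at hx₀
  obtain ⟨z, hz⟩ : a • Φ (w 1) - x₀ ∈ LinearMap.range e'.ι := by
    rw [← Submodule.Quotient.mk_eq_zero, Submodule.Quotient.mk_sub, Submodule.Quotient.mk_smul, hx₀,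
      ← h2 (w 1)]
    exact sub_self _
  refine ⟨M, z, fun b hb c hc => e'.injective ?_⟩
  rw [map_smul, map_smul, map_smul, map_smul, hz, ← h1, ← hx c hc, map_smul, smul_sub, smul_sub,
    smul_comm b c x₀, hM b hb, smul_zero, sub_zero, smul_comm a c]

/-- Degree two: lifting problems become solvable after `a`. -/
theorem exists_cobound_of_kills {ι : Type u} [Finite ι] (g : ι → A) {φ : N →ₗ[A] N'} {a : A}
    (hk : Kills (Ideal.span (Set.range g)) 2 φ a) {P : Type u} [AddCommGroup P] [Module A P]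
    (inc : N →ₗ[A] P) (hinc : Function.Injective inc) (k : ℕ) (x : ι → P) (E : ι → ι → N)
    (hE : ∀ i j, inc (E i j) = g j ^ k • x i - g i ^ k • x j) :
    ∃ (l : ℕ) (w : ι → N'), ∀ i j,
      (g i * g j) ^ l • a • φ (E i j) = g j ^ (k + l) • w i - g i ^ (k + l) • w j := by
  classical
  haveI := Fintype.ofFinite ι
  let 𝔤 := Ideal.span (Set.range g)
  have hgm : ∀ j, g j ∈ 𝔤 := fun j => Ideal.subset_span (Set.mem_range_self j)
  obtain ⟨e⟩ := nonempty_emb (A := A) N
  obtain ⟨e'⟩ := nonempty_emb (A := A) N'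
  obtain ⟨Φ, ψ, h1, h2⟩ := exists_extend e e' φ
  obtain ⟨f⟩ := nonempty_emb (A := A) e.C
  obtain ⟨f'⟩ := nonempty_emb (A := A) e'.C
  obtain ⟨Φ₂, ψ₂, h3, h4⟩ := exists_extend f f' ψ
  haveI := e.inj
  haveI := f.inj
  obtain ⟨ev, hev⟩ := Module.Injective.out inc hinc e.ι
  let u : ι → e.C := fun i => Submodule.Quotient.mk (ev (x i))
  have hu : ∀ i j, g j ^ k • u i = g i ^ k • u j := fun i j => by
    rw [← sub_eq_zero, ← Submodule.Quotient.mk_smul, ← Submodule.Quotient.mk_smul, ← Submodule.Quotient.mk_sub,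
      ← map_smul, ← map_smul, ← map_sub, ← hE, hev]
    exact (Submodule.Quotient.mk_eq_zero _).2 (LinearMap.mem_range_self _ _)
  -- the relations between the powers, and their bounded torsion values
  let Lk : (ι → A) →ₗ[A] A := Fintype.linearCombination A (fun i => g i ^ k)
  let Lu : (ι → A) →ₗ[A] e.C := Fintype.linearCombination A u
  let V := (LinearMap.ker Lk).map Lu
  have hV : V ≤ DRing.torsionSub 𝔤 e.C := by
    rintro _ ⟨r, hr, rfl⟩
    have hr' : ∑ i, r i • g i ^ k = 0 := by simpa [Lk, Fintype.linearCombination_apply] using hr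
    have hj : ∀ j, g j ^ k • Lu r = 0 := fun j => by
      rw [Fintype.linearCombination_apply, Finset.smul_sum]
      calc ∑ i, g j ^ k • r i • u i = ∑ i, (r i • g i ^ k) • u j :=
            Finset.sum_congr rfl fun i _ => by rw [smul_comm, hu i j, smul_smul, smul_eq_mul]
        _ = 0 := by rw [← Finset.sum_smul, hr', zero_smul]
    have hle : 𝔤 ≤ Ideal.radical (LinearMap.ker (LinearMap.toSpanSingleton A e.C (Lu r))) := by
      refine Ideal.span_le.2 ?_
      rintro _ ⟨j, rfl⟩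
      exact ⟨k, by rw [LinearMap.mem_ker, LinearMap.toSpanSingleton_apply]; exact hj j⟩
    obtain ⟨n, hn⟩ := Ideal.exists_pow_le_of_le_radical_of_fg hle (IsNoetherian.noetherian _)
    exact ⟨n, fun b hb => by simpa using hn hb⟩
  obtain ⟨L, hL⟩ : ∃ L : ℕ, ∀ b ∈ 𝔤 ^ L, ∀ v ∈ V, b • v = 0 := by
    have hfg : V.FG := Submodule.FG.map _ (IsNoetherian.noetherian _)
    obtain ⟨s, hs⟩ := hfg
    choose n hn using fun v : {v // v ∈ s} => hV (hs.le (Submodule.subset_span v.2))
    refine ⟨Finset.univ.sup n, fun b hb v hv => ?_⟩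
    rw [← hs] at hv
    induction hv using Submodule.span_induction with
    | mem v hv => exact hn ⟨v, hv⟩ b (Ideal.pow_le_pow_right (Finset.le_sup (Finset.mem_univ _)) hb)
    | zero => exact smul_zero b
    | add p q _ _ hp hq => rw [smul_add, hp, hq, add_zero]
    | smul c p _ hp => rw [smul_comm, hp, smul_zero]
  obtain ⟨k₀, hk₀⟩ := Ideal.exists_pow_inf_eq_pow_smul 𝔤 (LinearMap.ker Lk)
  let l := k₀ + L
  let Lkl : (ι → A) →ₗ[A] A := Fintype.linearCombination A (fun i => g i ^ (k + l))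
  let Lul : (ι → A) →ₗ[A] f.E := f.ι.comp (Fintype.linearCombination A (fun i => g i ^ l • u i))
  have hker : LinearMap.ker Lkl ≤ LinearMap.ker Lul := by
    intro r hr
    let r' : ι → A := fun i => r i * g i ^ l
    have h5 : r' ∈ (𝔤 ^ l • ⊤ : Submodule A (ι → A)) ⊓ LinearMap.ker Lk := by
      refine ⟨?_, ?_⟩
      · rw [show r' = ∑ i, g i ^ l • (r i • Pi.single i (1 : A)) from funext fun j => by
          simp [r', Pi.single_apply, mul_comm]]
        exact sum_mem fun i _ => Submodule.smul_mem_smul (Ideal.pow_mem_pow (hgm i) l) trivial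
      · change Lk r' = 0
        rw [← LinearMap.mem_ker.1 hr]
        simp only [Lk, Lkl, r', Fintype.linearCombination_apply, smul_eq_mul, pow_add]
        exact Finset.sum_congr rfl fun i _ => by ring
    rw [hk₀ l (Nat.le_add_right _ _)] at h5
    have h6 : Lu r' = 0 := by
      refine Submodule.smul_induction_on h5 (fun b hb s hs => ?_) (fun p q hp hq => by rw [map_add, hp, hq, add_zero])
      rw [map_smul]
      exact hL b (Ideal.pow_le_pow_right (by omega) hb) _ ⟨s, hs.2, rfl⟩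
    rw [LinearMap.mem_ker, LinearMap.comp_apply,
      show Fintype.linearCombination A (fun i => g i ^ l • u i) r = Lu r' by
        simp [Lu, r', Fintype.linearCombination_apply, smul_smul], h6, map_zero]
  obtain ⟨h, hh⟩ := Module.Injective.out (LinearMap.range Lkl).subtype (Submodule.injective_subtype _)
    (((LinearMap.ker Lkl).liftQ Lul hker).comp Lkl.quotKerEquivRange.symm.toLinearMap)
  have hX : ∀ i, g i ^ (k + l) • h 1 = f.ι (g i ^ l • u i) := fun i => by
    have h7 := hh ⟨_, LinearMap.mem_range_self Lkl (Pi.single i 1)⟩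
    rw [LinearMap.comp_apply, LinearEquiv.coe_coe, LinearMap.quotKerEquivRange_symm_apply_image,
      Submodule.mkQ_apply, Submodule.liftQ_apply] at h7
    rw [← map_smul, smul_eq_mul, mul_one]
    simpa [Lkl, Lul, Fintype.linearCombination_apply, Pi.single_apply, ite_smul] using h7
  obtain ⟨z₀, hz₀⟩ := exists_h0 (𝔞 := 𝔤) (t := (Submodule.Quotient.mk (h 1) : f.C)) (by
    have hle : 𝔤 ≤ Ideal.radical (LinearMap.ker (LinearMap.toSpanSingleton A f.C (Submodule.Quotient.mk (h 1)))) := by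
      refine Ideal.span_le.2 ?_
      rintro _ ⟨j, rfl⟩
      refine ⟨k + l, ?_⟩
      rw [LinearMap.mem_ker, LinearMap.toSpanSingleton_apply, ← Submodule.Quotient.mk_smul, hX j]
      exact (Submodule.Quotient.mk_eq_zero _).2 (LinearMap.mem_range_self _ _)
    obtain ⟨n, hn⟩ := Ideal.exists_pow_le_of_le_radical_of_fg hle (IsNoetherian.noetherian _)
    exact ⟨n, fun b hb => by simpa using hn hb⟩)
  let z₁ := a • ((localCohomology 𝔤 0).map (ModuleCat.ofHom ψ₂)).hom z₀
  have h8 : e'.δ 1 (f'.δ 0 z₁) = 0 := by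
    simp only [z₁, map_smul]
    rw [← δ_comm f f' ψ Φ₂ ψ₂ h3 h4 0 z₀, ← δ_comm e e' φ Φ ψ h1 h2 1]
    exact hk _
  haveI : Injective (mseq e'.hex).X₂ :=
    haveI := e'.inj
    Module.injective_object_of_injective_module A e'.E
  haveI : Subsingleton ((localCohomology 𝔤 1).obj (mseq e'.hex).X₂ : Type u) :=
    LocCohLib.subsingleton_of_injective 0
  have h9 : f'.δ 0 z₁ = 0 := by
    obtain ⟨v, hv⟩ := LocCohLib.exists_of_δ_eq_zero 𝔤 e'.shortExact 1 _ h8
    rw [← hv, Subsingleton.elim v 0, map_zero]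
  obtain ⟨x₀, ⟨M, hM⟩, hx₀⟩ := exists_torsion_of_δ f' z₁ h9
  rw [map_smul, LocCohLib.h0_map, hz₀] at hx₀
  obtain ⟨c, hc⟩ : a • Φ₂ (h 1) - x₀ ∈ LinearMap.range f'.ι := by
    rw [← Submodule.Quotient.mk_eq_zero, Submodule.Quotient.mk_sub, Submodule.Quotient.mk_smul, hx₀, ← h4 (h 1)]
    exact sub_self _
  obtain ⟨c, rfl⟩ := Submodule.Quotient.mk_surjective _ c
  let W : ι → e'.E := fun i => g i ^ M • (a • g i ^ l • Φ (ev (x i)) - g i ^ (k + l) • c)
  have hW : ∀ i, W i ∈ LinearMap.range e'.ι := fun i => by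
    rw [← Submodule.Quotient.mk_eq_zero]
    refine f'.injective ?_
    simp only [W, Submodule.Quotient.mk_smul, Submodule.Quotient.mk_sub, ← h2, map_smul, map_sub, ← h3, map_zero]
    rw [← map_smul Φ₂, ← map_smul f.ι, ← hX i, map_smul, hc, smul_comm a, ← smul_sub, sub_sub_cancel, smul_comm,
      hM _ (Ideal.pow_mem_pow (hgm i) M), smul_zero]
  choose w hw using hW
  refine ⟨l + M, w, fun i j => e'.injective ?_⟩
  rw [map_sub, map_smul, map_smul, map_smul, map_smul, hw, hw, ← h1, ← hev (E i j), hE, map_sub, map_smul, map_smul,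
    map_sub, map_smul, map_smul]
  simp only [W, mul_pow, pow_add, smul_sub, smul_smul]
  module

end Groth.Agent.HyperGen
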