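import Groth.Agent.HyperGen.Reduce

/-!
Extension of covers of a punctured hypersurface section to the punctured spectrum.
-/

set_option autoImplicit false
set_option linter.style.haveILetI false
set_option backward.isDefEq.respectTransparency false
set_option backward.isDefEq.respectTransparency.types false
set_option maxHeartbeats 1000000

universe u

open CategoryTheory CategoryTheory.Limits AlgebraicGeometry TopologicalSpace Opposite
attribute [local instance] HasDerivedCategory.standard

noncomputable section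

namespace Groth.Agent.HyperGen

open HyperAlg

variable {A : Type u} [CommRing A] [IsNoetherianRing A] [IsLocalRing A]

/-- Covers of the punctured hypersurface extend, given purity of `A_f` at maximal ideals. -/
theorem essSurj_restrict (f : A) (hf : f ∈ IsLocalRing.maximalIdeal A) [IsAdicComplete (Ideal.span {f}) A]
    (hd : ∃ ω : Dual.D A, Dual.IsDualizing A ω) (hc : DepthCond f)
    (hp : ∀ P : Ideal (Localization.Away f), ∀ _ : P.IsMaximal, FEt.PurityHolds (Localization.AtPrime P)) :
    (FEt.restrict (HyperFEt.r0 A f)).EssSurj := by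
  refine ⟨fun V₀ => ?_⟩
  obtain ⟨U', hU'le, u', hu', V', ⟨iso⟩⟩ := exists_neighbourhood_hyp f hf hd hc _ (by rw [zero_add, pow_one]) V₀
  let U := FEt.puncturedSpec A
  haveI : IsNoetherianRing (CommRingCat.of A) := inferInstanceAs (IsNoetherianRing A)
  haveI : IsNoetherian (Spec (CommRingCat.of A)) := {}
  haveI : IsNoetherian (U : Scheme.{u}) := by
    haveI : IsLocallyNoetherian (U : Scheme.{u}) := isLocallyNoetherian_of_isOpenImmersion U.ι
    haveI : CompactSpace (U : Scheme.{u}) :=
      isCompact_iff_compactSpace.1 (TopologicalSpace.NoetherianSpace.isCompact _)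
    exact {}
  let W := U.ι ⁻¹ᵁ U'
  have hpur : ∀ x : (U : Scheme.{u}), x ∉ W → FEt.PurityHolds ((U : Scheme.{u}).presheaf.stalk x) := by
    intro x hx
    have hU₀ : ∀ q : PrimeSpectrum A, q ∈ U → f ∈ q.asIdeal → q ∈ U' := fun q hq hfq => by
      obtain ⟨y, hy⟩ : (⟨q, hq⟩ : (U : Scheme.{u})) ∈ Set.range (HyperFEt.r0 A f) := by
        rw [HyperFEt.range_r0]; exact hfq
      have h3 := (u' y).2
      rw [show ((u' y).1 : PrimeSpectrum A) = (u' ≫ U'.ι) y from rfl, hu'] at h3
      rwa [Scheme.Hom.comp_apply, show pullback.fst U.ι _ y = ⟨q, hq⟩ from hy] at h3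
    let p : PrimeSpectrum A := x.1
    have hfp : f ∉ p.asIdeal := fun hfp => hx (hU₀ p x.2 hfp)
    have hmax := isMaximal_of_closed hf p.asIdeal hfp fun q hq hpq hfq => by
      by_contra hqm
      refine hx ?_
      have hsp : p ⤳ (⟨q, hq⟩ : PrimeSpectrum A) := (PrimeSpectrum.le_iff_specializes _ _).1 hpq
      exact hsp.mem_open U'.isOpen (hU₀ ⟨q, hq⟩ (fun he => hqm (congrArg PrimeSpectrum.asIdeal he)) hfq)
    refine purityHolds_stalk U x _ ?_ (hp _ hmax)
    refine IsLocalization.under_map_of_isPrime_disjoint (Submonoid.powers f) _ p.2 ?_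
    rw [Set.disjoint_left]
    rintro _ ⟨n, rfl⟩ hn
    exact hfp (p.2.mem_of_pow_mem n hn)
  haveI := S0250.result W hpur
  have hrW : Set.range (W.ι ≫ U.ι) ⊆ Set.range U'.ι := by
    rintro _ ⟨z, rfl⟩
    rw [Scheme.Opens.range_ι]
    exact z.2
  let θ := IsOpenImmersion.lift U'.ι (W.ι ≫ U.ι) hrW
  have hrw : Set.range (HyperFEt.r0 A f) ⊆ Set.range W.ι := by
    rintro _ ⟨y, rfl⟩
    rw [Scheme.Opens.range_ι]
    show U.ι (pullback.fst U.ι _ y) ∈ U'
    rw [← Scheme.Hom.comp_apply, ← hu']
    exact (u' y).2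
  let w := IsOpenImmersion.lift W.ι (HyperFEt.r0 A f) hrw
  have hw : w ≫ W.ι = HyperFEt.r0 A f := IsOpenImmersion.lift_fac _ _ _
  have hwθ : w ≫ θ = u' := by
    rw [← cancel_mono U'.ι, Category.assoc, IsOpenImmersion.lift_fac, ← Category.assoc, hw, hu']
  let Z := (FEt.restrict W.ι).objPreimage ((FEt.restrict θ).obj V')
  exact ⟨Z, ⟨(MorphismProperty.Over.pullbackComp w W.ι (HyperFEt.r0 A f) hw.symm).app Z ≪≫
    (FEt.restrict w).mapIso ((FEt.restrict W.ι).objObjPreimageIso _) ≪≫
    (MorphismProperty.Over.pullbackComp w θ u' hwθ.symm).symm.app V' ≪≫ iso⟩⟩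

end Groth.Agent.HyperGen
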