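import Groth.Agent.HyperAlg.ToSys

/-!
Functions on the base change of a quasi-affine scheme over `Spec A` along a closed immersion.
-/

set_option autoImplicit false
set_option linter.style.haveILetI false
set_option backward.isDefEq.respectTransparency false
set_option backward.isDefEq.respectTransparency.types false
set_option maxHeartbeats 1000000

universe u

open CategoryTheory CategoryTheory.Limits AlgebraicGeometry TopologicalSpace Opposite

noncomputable section

namespace Groth.Agent.HyperGen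

open HyperAlg

variable {A : Type u} [CommRing A] (K : Ideal A)

/-- The closed immersion of the quotient. -/
abbrev qK : Spec (CommRingCat.of (A ⧸ K)) ⟶ Spec (CommRingCat.of A) :=
  Spec.map (CommRingCat.ofHom (Ideal.Quotient.mk K))

variable {K} {X X' : Scheme.{u}} {q : X ⟶ Spec (CommRingCat.of A)} {q' : X' ⟶ Spec (CommRingCat.of (A ⧸ K))}
  {r : X' ⟶ X}

/-- Pullback of functions to the closed subscheme. -/
def rho (_h : IsPullback r q' q (qK K)) : Gam q →+* Gam q' := r.appTop.hom

theorem rho_algebraMap (h : IsPullback r q' q (qK K)) (a : A) :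
    rho h (algebraMap A (Gam q) a) = algebraMap (A ⧸ K) (Gam q') (Ideal.Quotient.mk K a) := by
  show r.appTop (q.appTop ((Scheme.ΓSpecIso (CommRingCat.of A)).inv a)) =
    q'.appTop ((Scheme.ΓSpecIso (CommRingCat.of (A ⧸ K))).inv (Ideal.Quotient.mk K a))
  rw [← CategoryTheory.comp_apply, ← Scheme.Hom.comp_appTop, h.w, Scheme.Hom.comp_appTop, CategoryTheory.comp_apply,
    ← CategoryTheory.comp_apply _ (qK K).appTop, ← Scheme.ΓSpecIso_inv_naturality]
  rfl

theorem rho_smul (h : IsPullback r q' q (qK K)) (a : A) (z : Gam q) :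
    rho h (a • z) = Ideal.Quotient.mk K a • rho h z := by
  rw [Algebra.smul_def, map_mul, rho_algebraMap, ← Algebra.smul_def]

theorem rho_smul_top (h : IsPullback r q' q (qK K)) {z : Gam q} (hz : z ∈ K • (⊤ : Submodule A (Gam q))) :
    rho h z = 0 := by
  refine Submodule.smul_induction_on hz (fun a ha w _ => ?_) (fun x y hx hy => by rw [map_add, hx, hy, add_zero])
  rw [rho_smul, Ideal.Quotient.eq_zero_iff_mem.2 ha, zero_smul]

variable [CompactSpace X] [QuasiSeparatedSpace X] [CompactSpace X'] [QuasiSeparatedSpace X']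

/-- Local surjectivity and kernel of the pullback. -/
theorem rho_local (h : IsPullback r q' q (qK K)) (a : A) [IsAffine (piece q a).toScheme] :
    (∀ y : Gam q', ∃ k z, rho h z = Ideal.Quotient.mk K a ^ k • y) ∧
      ∀ z : Gam q, rho h z = 0 → ∃ k : ℕ, a ^ k • z ∈ K • (⊤ : Submodule A (Gam q)) := by
  let W := piece q a
  have hW : r ⁻¹ᵁ W = piece q' (Ideal.Quotient.mk K a) := by
    show r ⁻¹ᵁ q ⁻¹ᵁ _ = q' ⁻¹ᵁ _
    rw [← Scheme.Hom.comp_preimage, h.w, Scheme.Hom.comp_preimage]
    rfl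
  let W' := piece q' (Ideal.Quotient.mk K a)
  let φ : W'.toScheme ⟶ W.toScheme := X'.homOfLE hW.ge ≫ (r ∣_ W)
  have hφ : φ ≫ W.ι = W'.ι ≫ r := by
    rw [Category.assoc, morphismRestrict_ι, Scheme.homOfLE_ι_assoc]
  haveI : IsIso (X'.homOfLE hW.ge) := by
    rw [show X'.homOfLE hW.ge = (X'.isoOfEq hW.symm).hom from (Scheme.isoOfEq_hom _ _).symm]
    infer_instance
  have hsq : IsPullback φ W'.ι W.ι r :=
    (isPullback_morphismRestrict r W).of_iso (asIso (X'.homOfLE hW.ge)).symm (Iso.refl _) (Iso.refl _)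
      (Iso.refl _) (by simp [φ]) (by simp [W']) (by simp) (by simp)
  have hP := isPushout_appTop_of_isPullback (hsq.paste_vert h)
  have hq : Function.Surjective (qK K).appTop := fun x => by
    obtain ⟨y, hy⟩ := (ConcreteCategory.bijective_of_isIso (Scheme.ΓSpecIso _).inv).surjective x
    obtain ⟨y, rfl⟩ := Ideal.Quotient.mk_surjective y
    refine ⟨(Scheme.ΓSpecIso (CommRingCat.of A)).inv y, ?_⟩
    rw [← CategoryTheory.comp_apply, ← Scheme.ΓSpecIso_inv_naturality]
    exact hy
  obtain ⟨hs, hk⟩ := ker_of_isPushout hP hq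
  let Φ : Gam (W.ι ≫ q) →+* Gam (W'.ι ≫ q') := φ.appTop.hom
  have hcomm : ∀ z : Gam q, resP q' (Ideal.Quotient.mk K a) (rho h z) = Φ (resP q a z) := fun z => by
    show W'.ι.appTop (r.appTop z) = φ.appTop (W.ι.appTop z)
    rw [← CategoryTheory.comp_apply, ← CategoryTheory.comp_apply, ← Scheme.Hom.comp_appTop, ← Scheme.Hom.comp_appTop, hφ]
  have hΦ : ∀ (b : A) (w : Gam (W.ι ≫ q)), Φ (b • w) = Ideal.Quotient.mk K b • Φ w := fun b w => by
    have hb : Φ (algebraMap A (Gam (W.ι ≫ q)) b) = algebraMap (A ⧸ K) (Gam (W'.ι ≫ q')) (Ideal.Quotient.mk K b) := by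
      rw [← (resP q a).commutes, ← hcomm, rho_algebraMap, (resP q' _).commutes]
    rw [Algebra.smul_def, map_mul, hb, ← Algebra.smul_def]
  refine ⟨fun y => ?_, fun z hz => ?_⟩
  · obtain ⟨w, hw⟩ := hs (resP q' (Ideal.Quotient.mk K a) y)
    let w' : Gam (W.ι ≫ q) := w
    obtain ⟨k, z, hz⟩ := (res_piece_loc q a).1 w'
    obtain ⟨l, hl⟩ := (res_piece_loc q' (Ideal.Quotient.mk K a)).2 (rho h z - Ideal.Quotient.mk K a ^ k • y) (by
      rw [map_sub, hcomm, hz, hΦ, map_smul, map_pow, sub_eq_zero]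
      exact congrArg _ hw)
    refine ⟨l + k, a ^ l • z, ?_⟩
    rw [rho_smul, map_pow, pow_add, mul_smul, ← sub_eq_zero, ← smul_sub, hl]
  · have hz' : resP q a z ∈ RingHom.ker φ.appTop.hom := (hcomm z).symm.trans (by rw [hz, map_zero])
    have hz2 : resP q a z ∈ K.map (algebraMap A (Gam (W.ι ≫ q))) := by
      rw [hk] at hz'
      refine (Ideal.map_le_iff_le_comap.2 ?_ hz' : _)
      intro c hc
      obtain ⟨b, rfl⟩ := (ConcreteCategory.bijective_of_isIso (Scheme.ΓSpecIso (CommRingCat.of A)).inv).surjective c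
      have hb : b ∈ K := by
        rw [← Ideal.Quotient.eq_zero_iff_mem]
        refine (ConcreteCategory.bijective_of_isIso (Scheme.ΓSpecIso (CommRingCat.of (A ⧸ K))).inv).injective ?_
        refine Eq.trans ?_ ((show (qK K).appTop ((Scheme.ΓSpecIso (CommRingCat.of A)).inv b) = 0 from hc).trans
          (map_zero _).symm)
        rw [← CategoryTheory.comp_apply _ (qK K).appTop, ← Scheme.ΓSpecIso_inv_naturality]
        rfl
      exact Ideal.mem_map_of_mem (algebraMap A (Gam (W.ι ≫ q))) hb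
    have key : ∀ w : Gam (W.ι ≫ q), w ∈ K.map (algebraMap A (Gam (W.ι ≫ q))) →
        ∃ k : ℕ, ∃ w₀ ∈ K • (⊤ : Submodule A (Gam q)), resP q a w₀ = a ^ k • w := fun w hw => by
      rw [← Submodule.restrictScalars_mem A, ← Ideal.smul_top_eq_map] at hw
      refine Submodule.smul_induction_on hw (fun b hb v _ => ?_) ?_
      · obtain ⟨k, v', hv'⟩ := (res_piece_loc q a).1 v
        exact ⟨k, b • v', Submodule.smul_mem_smul hb trivial, by rw [map_smul, hv', smul_comm]⟩
      · rintro x y ⟨k, x', hx, hx'⟩ ⟨l, y', hy, hy'⟩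
        exact ⟨k + l, a ^ l • x' + a ^ k • y', add_mem (Submodule.smul_mem _ _ hx) (Submodule.smul_mem _ _ hy), by
          rw [map_add, map_smul, map_smul, hx', hy', smul_add, smul_smul, smul_smul, ← pow_add, ← pow_add, add_comm l k]⟩
    obtain ⟨k, w₀, hw₀, hres⟩ := key _ hz2
    obtain ⟨l, hl⟩ := (res_piece_loc q a).2 (a ^ k • z - w₀) (by rw [map_sub, map_smul, hres, sub_self])
    refine ⟨l + k, ?_⟩
    rw [pow_add, mul_smul, show a ^ l • a ^ k • z = a ^ l • w₀ by rw [← sub_eq_zero, ← smul_sub, hl]]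
    exact Submodule.smul_mem _ _ hw₀

end Groth.Agent.HyperGen
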