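import Groth.Agent.HyperGen.Cart
import Groth.Agent.HyperGen.Piece

/-!
Neighbourhoods of covers of a hypersurface section of a punctured spectrum, from algebras over a quotient of
the ring in which the equation is regular.
-/

set_option autoImplicit false
set_option linter.style.haveILetI false
set_option backward.isDefEq.respectTransparency false
set_option backward.isDefEq.respectTransparency.types false
set_option maxHeartbeats 1600000
set_option synthInstance.maxHeartbeats 200000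

universe u

open CategoryTheory CategoryTheory.Limits AlgebraicGeometry TopologicalSpace Opposite

noncomputable section

namespace Groth.Agent.HyperGen

open HyperAlg

variable {A : Type u} [CommRing A] [IsNoetherianRing A] {ι : Type u} [Finite ι] (g : ι → A)

/-- A finite submodule with the same localisations gives a finite subalgebra with the same localisations. -/
theorem exists_finite_subalgebra {R : Type u} [CommRing R] [Algebra A R] (N : Submodule A R) [Module.Finite A N]
    (hN : ∀ (j : ι) (z : R), ∃ k : ℕ, g j ^ k • z ∈ N) :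
    ∃ D : Subalgebra A R, Module.Finite A D ∧ ∀ (j : ι) (z : R), ∃ k : ℕ, g j ^ k • z ∈ D := by
  classical
  let 𝔞 := Ideal.span (Set.range g)
  obtain ⟨s, hs⟩ := Module.Finite.iff_fg.1 ‹Module.Finite A N›
  have hpow : ∀ z : R, ∃ K, ∀ b ∈ 𝔞 ^ K, b • z ∈ N := fun z =>
    Ideal.exists_pow_le_of_le_radical_of_fg (J := N.comap (LinearMap.toSpanSingleton A R z)) (Ideal.span_le.2 (by
      rintro _ ⟨j, rfl⟩
      exact hN j z)) (IsNoetherian.noetherian _)
  choose K₀ hK₀ using hpow
  let K := (s ×ˢ s).sup fun p => K₀ (p.1 * p.2)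
  have hmul : ∀ b ∈ 𝔞 ^ K, ∀ x ∈ N, ∀ y ∈ N, b • (x * y) ∈ N := fun b hb x hx y hy => by
    rw [← hs] at hx hy
    induction hx, hy using Submodule.span_induction₂ with
    | mem_mem x y hx hy =>
      exact hK₀ _ b (Ideal.pow_le_pow_right (Finset.le_sup (f := fun p : R × R => K₀ (p.1 * p.2))
        (Finset.mem_product.2 ⟨Finset.mem_coe.1 hx, Finset.mem_coe.1 hy⟩ : (x, y) ∈ s ×ˢ s)) hb)
    | zero_left y _ => rw [zero_mul, smul_zero]; exact N.zero_mem
    | zero_right x _ => rw [mul_zero, smul_zero]; exact N.zero_mem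
    | add_left x y z _ _ _ h1 h2 => rw [add_mul, smul_add]; exact N.add_mem h1 h2
    | add_right x y z _ _ _ h1 h2 => rw [mul_add, smul_add]; exact N.add_mem h1 h2
    | smul_left r x y _ _ h => rw [smul_mul_assoc, smul_comm]; exact N.smul_mem r h
    | smul_right r x y _ _ h => rw [mul_smul_comm, smul_comm]; exact N.smul_mem r h
  let M : Submodule A R := 𝔞 ^ K • N
  let D₀ : Submodule A R := Submodule.span A {1} ⊔ M
  have hMM : ∀ x ∈ M, ∀ y ∈ M, x * y ∈ M := fun x hx y hy => by
    refine Submodule.smul_induction_on hx (fun b hb u hu => ?_) (fun p q hp hq => by rw [add_mul]; exact M.add_mem hp hq)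
    refine Submodule.smul_induction_on hy (fun c hc v hv => ?_) (fun p q hp hq => by rw [mul_add]; exact M.add_mem hp hq)
    rw [smul_mul_assoc, mul_smul_comm]
    exact Submodule.smul_mem_smul hb (hmul c hc u hu v hv)
  have hDD : ∀ x y, x ∈ D₀ → y ∈ D₀ → x * y ∈ D₀ := fun x y hx hy => by
    obtain ⟨_, hx₁, m, hm, rfl⟩ := Submodule.mem_sup.1 hx
    obtain ⟨_, hy₁, n, hn, rfl⟩ := Submodule.mem_sup.1 hy
    obtain ⟨a, rfl⟩ := Submodule.mem_span_singleton.1 hx₁
    obtain ⟨c, rfl⟩ := Submodule.mem_span_singleton.1 hy₁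
    rw [show (a • (1 : R) + m) * (c • 1 + n) = (a * c) • 1 + (a • n + c • m + m * n) by
      simp only [Algebra.smul_def, map_mul]; ring]
    exact add_mem (le_sup_left (a := Submodule.span A {(1 : R)}) (b := M)
      (Submodule.smul_mem _ _ (Submodule.mem_span_singleton_self 1)))
      (le_sup_right (a := Submodule.span A {(1 : R)}) (b := M)
        (add_mem (add_mem (M.smul_mem a hn) (M.smul_mem c hm)) (hMM m hm n hn)))
  let D : Subalgebra A R := D₀.toSubalgebra (le_sup_left (a := Submodule.span A {(1 : R)}) (b := M)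
    (Submodule.mem_span_singleton_self 1)) hDD
  haveI := isNoetherian_of_isNoetherianRing_of_finite A N
  have hfg : D₀.FG := (Submodule.fg_span_singleton 1).sup
    (Submodule.FG.of_le (Module.Finite.iff_fg.1 ‹Module.Finite A N›) Submodule.smul_le_right)
  refine ⟨D, Module.Finite.iff_fg.2 hfg, fun j z => ?_⟩
  obtain ⟨k, hk⟩ := hN j z
  exact ⟨K + k, le_sup_right (a := Submodule.span A {(1 : R)}) (b := M) (by
    rw [pow_add, mul_smul]
    exact Submodule.smul_mem_smul (Ideal.pow_mem_pow (Ideal.subset_span (Set.mem_range_self j)) K) hk)⟩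

omit [IsNoetherianRing A] in
theorem isPushout_quotient_map {B : Type u} [CommRing B] [Algebra A B] (I : Ideal A) (J : Ideal B)
    (hJ : I.map (algebraMap A B) = J) (hle : I ≤ J.comap (algebraMap A B)) :
    IsPushout (CommRingCat.ofHom (algebraMap A B)) (CommRingCat.ofHom (Ideal.Quotient.mk I))
      (CommRingCat.ofHom (Ideal.Quotient.mk J)) (CommRingCat.ofHom (Ideal.quotientMap J (algebraMap A B) hle)) := by
  subst hJ
  exact isPushout_quotient I

variable {f : A} {U : (Spec (CommRingCat.of A)).Opens} (hU : U = ⨆ j, PrimeSpectrum.basicOpen (g j)) (K : Ideal A)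

include hU in
/-- A cover of the hypersurface extends to a neighbourhood if it is algebraized over a quotient by an ideal
killed by the equation along the hypersurface. -/
theorem exists_neighbourhood (hK : ∀ p : Ideal A, p.IsPrime → f ∈ p → (∃ j, g j ∉ p) → ∀ x ∈ K,
      ∃ s ∉ p, s * (f * x) = 0)
    (halg : ∀ L' : Levels (Ideal.Quotient.mk K f) (qK K ⁻¹ᵁ U), ∃ (B' : Type u) (_ : CommRing B')
      (_ : Algebra (A ⧸ K) B') (_ : Module.Finite (A ⧸ K) B') (π : B' →ₐ[A ⧸ K] Gam (L'.q 0)),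
      IsSMulRegular B' (Ideal.Quotient.mk K f) ∧ (∀ x, π x = 0 → ∃ y, Ideal.Quotient.mk K f • y = x) ∧
        ∀ j y, ∃ k x, π x = Ideal.Quotient.mk K (g j) ^ k • y)
    (I : Ideal A) (hI : I = Ideal.span {f ^ (0 + 1)})
    (V₀ : FEt.Cat (pullback U.ι (Spec.map (CommRingCat.ofHom (Ideal.Quotient.mk I))))) :
    ∃ (U' : (Spec (CommRingCat.of A)).Opens) (_ : U' ≤ U)
      (u' : pullback U.ι (Spec.map (CommRingCat.ofHom (Ideal.Quotient.mk I))) ⟶ (U' : Scheme.{u}))
      (_ : u' ≫ U'.ι = pullback.fst U.ι (Spec.map (CommRingCat.ofHom (Ideal.Quotient.mk I))) ≫ U.ι)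
      (V' : FEt.Cat (U' : Scheme.{u})), Nonempty ((FEt.restrict u').obj V' ≅ V₀) := by
  subst hI
  let A' := A ⧸ K
  let F' : A' := Ideal.Quotient.mk K f
  let g' : ι → A' := fun j => Ideal.Quotient.mk K (g j)
  let U₁ := qK K ⁻¹ᵁ U
  have hU₁ : U₁ = ⨆ j, PrimeSpectrum.basicOpen (g' j) := by
    show qK K ⁻¹ᵁ U = _
    rw [hU, Scheme.Hom.preimage_iSup]
    rfl
  have hle : Ideal.span {f ^ (0 + 1)} ≤ (Ideal.span {F' ^ (0 + 1)}).comap (Ideal.Quotient.mk K) := by
    rw [Ideal.span_le, Set.singleton_subset_iff]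
    show Ideal.Quotient.mk K (f ^ (0 + 1)) ∈ Ideal.span {F' ^ (0 + 1)}
    rw [map_pow]
    exact Ideal.mem_span_singleton_self _
  let s := Spec.map (CommRingCat.ofHom (Ideal.quotientMap (Ideal.span {F' ^ (0 + 1)}) (Ideal.Quotient.mk K) hle))
  have hsq : IsPullback s (qn F' 0) (qn f 0) (qK K) :=
    (isPullback_SpecMap_of_isPushout _ _ _ _ (isPushout_quotient_map (B := A') (Ideal.span {f ^ (0 + 1)})
      (Ideal.span {F' ^ (0 + 1)}) (by rw [Ideal.map_span, Set.image_singleton, map_pow]; rfl) hle)).flip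
  let r₀ : Un F' U₁ 0 ⟶ Un f U 0 := pullback.lift (pullback.fst _ _ ≫ (qK K ∣_ U)) (pullback.snd _ _ ≫ s) (by
    rw [Category.assoc, morphismRestrict_ι, ← Category.assoc, pullback.condition, Category.assoc, Category.assoc, hsq.w])
  have hr₀ : IsPullback r₀ (pullback.fst _ _ ≫ U₁.ι) (pullback.fst _ _ ≫ U.ι) (qK K) := by
    have h1 : IsPullback r₀ (pullback.snd _ _) (pullback.snd _ _) s := by
      refine IsPullback.of_right (h₁₂ := pullback.fst _ _) (v₁₃ := U.ι) (h₂₂ := qn f 0) ?_
        (pullback.lift_snd _ _ _) (IsPullback.of_hasPullback _ _)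
      rw [pullback.lift_fst, hsq.w]
      exact (IsPullback.of_hasPullback _ _).paste_horiz (isPullback_morphismRestrict (qK K) U)
    have h2 := h1.paste_vert hsq
    rwa [← pullback.condition, ← pullback.condition] at h2
  let L := coverLevels f U V₀
  let L' := coverLevels F' U₁ ((FEt.restrict r₀).obj V₀)
  let ρ' : L'.X 0 ⟶ L.X 0 := pullback.fst V₀.hom r₀
  have hX : IsPullback ρ' (L'.q 0) (L.q 0) (qK K) := by
    have h := (IsPullback.of_hasPullback V₀.hom r₀).paste_vert hr₀
    rw [← Category.assoc, ← Category.assoc] at h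
    exact h
  obtain ⟨_, _⟩ := L.compactSpace g hU 0
  obtain ⟨_, _⟩ := L'.compactSpace g' hU₁ 0
  let ρ := rho hX
  have hloc : ∀ j, (∀ y : Gam (L'.q 0), ∃ k z, ρ z = g' j ^ k • y) ∧
      ∀ z : Gam (L.q 0), ρ z = 0 → ∃ k : ℕ, g j ^ k • z ∈ K • (⊤ : Submodule A (Gam (L.q 0))) := fun j => by
    haveI : IsAffine (piece (L.q 0) (g j)).toScheme := L.isAffineOpen_piece g hU 0 j
    exact rho_local hX (g j)
  obtain ⟨B', _, _, _, π', hreg, hker', hsurj'⟩ := halg L'
  obtain ⟨N, hN, hNg⟩ : ∃ N : Submodule A (Gam (L.q 0)), Module.Finite A N ∧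
      ∀ (j : ι) (z : Gam (L.q 0)), ∃ k : ℕ, g j ^ k • z ∈ N := by
    classical
    haveI := L.finite 0
    haveI := Fintype.ofFinite ι
    choose S hS using HyperFEt.exists_loc_gens A g U hU (L.π 0)
    let T : Finset (Gam (L.q 0)) := Finset.univ.biUnion fun i => S i
    exact ⟨Submodule.span A (T : Set (Gam (L.q 0))), Module.Finite.iff_fg.2 (Submodule.fg_span T.finite_toSet),
      fun j z => (hS j z).imp fun m hm => Submodule.span_mono
        (fun x hx => Finset.mem_biUnion.2 ⟨j, Finset.mem_univ j, hx⟩) hm⟩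
  haveI := hN
  obtain ⟨D, hD, hDg⟩ := exists_finite_subalgebra g N hNg
  haveI := hD
  letI : Algebra A B' := Algebra.compHom B' (Ideal.Quotient.mk K)
  haveI : IsScalarTower A A' B' := IsScalarTower.of_algebraMap_eq fun a => rfl
  haveI : Module.Finite A B' := Module.Finite.trans A' B'
  have hsm : ∀ (a : A) (b : B'), a • b = Ideal.Quotient.mk K a • b := fun a b => (algebraMap_smul A' a b).symm
  let S₀ : Subalgebra A (B' × Gam (L.q 0)) :=
    { carrier := {x | π' x.1 = ρ x.2 ∧ x.2 ∈ D}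
      mul_mem' := fun {x y} hx hy => ⟨by simp only [Prod.fst_mul, Prod.snd_mul, map_mul, hx.1, hy.1], D.mul_mem hx.2 hy.2⟩
      one_mem' := ⟨by simp only [Prod.fst_one, Prod.snd_one, map_one], D.one_mem⟩
      add_mem' := fun {x y} hx hy => ⟨by simp only [Prod.fst_add, Prod.snd_add, map_add, hx.1, hy.1], D.add_mem hx.2 hy.2⟩
      zero_mem' := ⟨by simp only [Prod.fst_zero, Prod.snd_zero, map_zero], D.zero_mem⟩
      algebraMap_mem' := fun a => ⟨(π'.commutes _).trans (rho_algebraMap hX a).symm, D.algebraMap_mem a⟩ }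
  haveI : Module.Finite A S₀ := by
    let emb : S₀ →ₗ[A] B' × D :=
      ((LinearMap.fst A B' (Gam (L.q 0))).comp S₀.val.toLinearMap).prod
        (((LinearMap.snd A B' (Gam (L.q 0))).comp S₀.val.toLinearMap).codRestrict D.toSubmodule fun x => x.2.2)
    haveI := isNoetherian_of_isNoetherianRing_of_finite A (B' × D)
    exact Module.Finite.of_injective emb fun x y h =>
      Subtype.ext (Prod.ext (congrArg (fun p : B' × D => p.1) h) (congrArg (fun p : B' × D => (p.2 : Gam (L.q 0))) h))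
  let B := ↥S₀
  let π : B →ₐ[A] Gam (L.q 0) := (AlgHom.snd A B' (Gam (L.q 0))).comp S₀.val
  have hsurj : ∀ j y, ∃ k x, π x = g j ^ k • y := fun j y => by
    obtain ⟨k, hk⟩ := hDg j y
    obtain ⟨l, b, hb⟩ := hsurj' j (ρ (g j ^ k • y))
    refine ⟨l + k, ⟨(b, g j ^ l • g j ^ k • y), ?_, D.smul_mem hk _⟩, ?_⟩
    · rw [hb, rho_smul hX (g j ^ l), map_pow]
    · show g j ^ l • g j ^ k • y = _
      rw [smul_smul, pow_add]
  have hker : ∀ x, π x = 0 → ∀ j, ∃ (k : ℕ) (y : B), f • y = g j ^ k • x := fun x hx j => by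
    have h1 : π' x.1.1 = 0 := by rw [x.2.1, show x.1.2 = 0 from hx, map_zero]
    obtain ⟨b, hb⟩ := hker' _ h1
    obtain ⟨k, z, hz⟩ := (hloc j).1 (π' b)
    obtain ⟨l, hl⟩ := hDg j z
    refine ⟨l + k, ⟨(g j ^ (l + k) • b, g j ^ l • z), ?_, hl⟩, Subtype.ext (Prod.ext ?_ ?_)⟩
    · rw [hsm, map_smul, map_pow, rho_smul hX (g j ^ l), map_pow, hz, smul_smul, ← pow_add]
    · show f • g j ^ (l + k) • b = g j ^ (l + k) • x.1.1
      rw [smul_comm, hsm f, hb]
    · show f • g j ^ l • z = g j ^ (l + k) • x.1.2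
      rw [show x.1.2 = 0 from hx, smul_zero, smul_comm]
      have := L.killed 0 z
      rw [zero_add, pow_one] at this
      rw [this, smul_zero]
  have htor : ∀ (P : Ideal B) [P.IsPrime], algebraMap A B f ∈ P → ∀ j, algebraMap A B (g j) ∉ P →
      ∀ b : B, f • b = 0 → ∃ s ∉ P, s * b ∈ (annOf f).map (algebraMap A B) := fun P _ hfP j hgP b hb => by
    let p := P.comap (algebraMap A B)
    have hgp : ∀ k : ℕ, g j ^ k ∉ p := fun k h => hgP (Ideal.IsPrime.mem_of_pow_mem inferInstance k (by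
      rw [← map_pow]; exact h))
    have h1 : b.1.1 = 0 := by
      refine hreg.right_eq_zero_of_smul ?_
      rw [← hsm]
      exact congrArg (fun x : B => x.1.1) hb
    have h2 : ρ b.1.2 = 0 := by rw [← b.2.1, h1, map_zero]
    obtain ⟨k, hk⟩ := (hloc j).2 _ h2
    have key : ∀ w ∈ K • (⊤ : Submodule A (Gam (L.q 0))), ∃ e ∈ (annOf f).map (algebraMap A B), ∃ s ∉ p,
        e.1.1 = 0 ∧ e.1.2 = s • w := fun w hw => by
      refine Submodule.smul_induction_on hw (fun x hx z _ => ?_) ?_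
      · obtain ⟨k', bz, hbz⟩ := hsurj j z
        obtain ⟨s, hs, hsx⟩ := hK p inferInstance hfP ⟨j, by simpa using hgp 1⟩ x hx
        refine ⟨(s * x) • bz, ?_, s * g j ^ k', fun h => ((Ideal.IsPrime.mem_or_mem inferInstance h).elim hs (hgp k')),
          ?_, ?_⟩
        · rw [Algebra.smul_def]
          refine Ideal.mul_mem_right _ _ (Ideal.mem_map_of_mem _ ?_)
          show s * x * f = 0
          rw [mul_assoc, mul_comm x f, hsx]
        · show (s * x) • bz.1.1 = 0
          rw [hsm, Ideal.Quotient.eq_zero_iff_mem.2 (Ideal.mul_mem_left _ _ hx), zero_smul]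
        · show (s * x) • π bz = _
          rw [hbz, smul_smul, smul_smul]
          congr 1
          ring
      · rintro w₁ w₂ ⟨e₁, he₁, s₁, hs₁, h₁, h₁'⟩ ⟨e₂, he₂, s₂, hs₂, h₂, h₂'⟩
        refine ⟨s₂ • e₁ + s₁ • e₂, ?_, s₁ * s₂, fun h => ((Ideal.IsPrime.mem_or_mem inferInstance h).elim hs₁ hs₂),
          ?_, ?_⟩
        · rw [Algebra.smul_def, Algebra.smul_def]
          exact add_mem (Ideal.mul_mem_left _ _ he₁) (Ideal.mul_mem_left _ _ he₂)
        · show s₂ • e₁.1.1 + s₁ • e₂.1.1 = 0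
          rw [h₁, h₂, smul_zero, smul_zero, add_zero]
        · show s₂ • e₁.1.2 + s₁ • e₂.1.2 = _
          rw [h₁', h₂', smul_smul, smul_smul, smul_add, mul_comm s₂]
    obtain ⟨e, he, s, hs, he1, he2⟩ := key _ hk
    refine ⟨algebraMap A B (s * g j ^ k),
      fun h => (Ideal.IsPrime.mem_or_mem (show p.IsPrime from inferInstance) h).elim hs (hgp k), ?_⟩
    rw [← Algebra.smul_def, show (s * g j ^ k) • b = e from Subtype.ext (Prod.ext ?_ ?_)]
    · exact he
    · show (s * g j ^ k) • b.1.1 = e.1.1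
      rw [h1, smul_zero, he1]
    · show (s * g j ^ k) • b.1.2 = e.1.2
      rw [he2, mul_smul]
  haveI : AlgebraicGeometry.FormallyUnramified (L.q 0) := by
    haveI : Etale V₀.hom := V₀.prop.2
    haveI : IsClosedImmersion (qn f 0) := IsClosedImmersion.spec_of_surjective _ Ideal.Quotient.mk_surjective
    exact MorphismProperty.comp_mem @AlgebraicGeometry.FormallyUnramified (V₀.hom ≫ pullback.fst _ _) U.ι
      (MorphismProperty.comp_mem @AlgebraicGeometry.FormallyUnramified _ _ inferInstance inferInstance) inferInstance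
  let p := Spec.map (CommRingCat.ofHom (algebraMap A B))
  haveI : IsFinite p := (IsFinite.SpecMap_iff _).2 (RingHom.finite_algebraMap.2 inferInstance)
  let Z : Set (Spec (CommRingCat.of B)) := {P | ¬ Algebra.IsEtaleAt A P.asIdeal}
  haveI : Algebra.FinitePresentation A B := Algebra.FinitePresentation.of_finiteType.1 inferInstance
  have hZ : IsClosed Z := (Algebra.isOpen_etaleLocus (R := A) (A := B)).isClosed_compl
  let U' : (Spec (CommRingCat.of A)).Opens := U ⊓ ⟨(p '' Z)ᶜ, (p.isClosedMap _ hZ).isOpen_compl⟩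
  have hr : Set.range (pullback.fst U.ι (qn f 0) ≫ U.ι) ⊆ Set.range U'.ι := by
    rintro _ ⟨x, rfl⟩
    rw [Scheme.Opens.range_ι]
    have hy : f ∈ ((pullback.fst U.ι (qn f 0) ≫ U.ι) x : PrimeSpectrum A).asIdeal := by
      rw [pullback.condition]
      have := (pullback.snd U.ι (qn f 0) x : PrimeSpectrum (A ⧸ Ideal.span {f ^ (0 + 1)})).asIdeal.zero_mem
      rw [← Ideal.Quotient.eq_zero_iff_mem.2 (Ideal.mem_span_singleton_self (f ^ (0 + 1))), map_pow] at this
      exact Ideal.IsPrime.mem_of_pow_mem (PrimeSpectrum.isPrime _) _ this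
    refine ⟨(pullback.fst U.ι (qn f 0) x).2, ?_⟩
    rintro ⟨P, hP, hPy⟩
    refine hP ?_
    obtain ⟨j, hj⟩ := TopologicalSpace.Opens.mem_iSup.1 (hU.le (pullback.fst U.ι (qn f 0) x).2)
    have hgP : algebraMap A B (g j) ∉ P.asIdeal := fun hgP => hj (by
      show g j ∈ ((pullback.fst U.ι (qn f 0) ≫ U.ι) x : PrimeSpectrum A).asIdeal
      rw [← hPy]
      exact hgP)
    have hfP : algebraMap A B f ∈ P.asIdeal := by
      rw [← hPy] at hy
      exact hy
    exact isEtaleAt g hU L π hker hsurj P.asIdeal hfP j hgP fun b hb => htor P.asIdeal hfP j hgP b hb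
  let u' := IsOpenImmersion.lift U'.ι (pullback.fst U.ι (qn f 0) ≫ U.ι) hr
  have hu' : u' ≫ U'.ι = pullback.fst U.ι (qn f 0) ≫ U.ι := IsOpenImmersion.lift_fac _ _ _
  haveI : Etale (p ∣_ U') := etale_restrict U' fun P hP => by
    by_contra hne
    exact hP.2 ⟨P, hne, rfl⟩
  let V' : FEt.Cat (U' : Scheme.{u}) := MorphismProperty.Over.mk ⊤ (p ∣_ U') ⟨inferInstance, inferInstance⟩
  refine ⟨U', inf_le_left, u', hu', V', ?_⟩
  have hh : pullback.lift (L.π 0) (L.a 0) (L.w 0).symm = V₀.hom := by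
    ext1 <;> simp [L, coverLevels, coverTower]
  have hbig := isPullback_limit g hU L π hker hsurj
  rw [hh, ← hu'] at hbig
  have hsmall := isPullback_morphismRestrict p U'
  let a := hsmall.lift (V₀.hom ≫ u') (L.psi π ≫ Spec.map (CommRingCat.ofHom (Ideal.Quotient.mk (Jf f B))))
    (by rw [Category.assoc]; exact hbig.w.symm)
  have hpb : IsPullback a V₀.hom (p ∣_ U') u' := by
    refine IsPullback.of_right (h₁₂ := (p ⁻¹ᵁ U').ι) (v₁₃ := p) (h₂₂ := U'.ι) ?_ (hsmall.lift_fst _ _ _) hsmall.flip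
    rwa [hsmall.lift_snd]
  exact ⟨MorphismProperty.Over.isoMk hpb.isoPullback.symm
    ((Iso.inv_comp_eq _).2 hpb.isoPullback_hom_snd.symm)⟩

end Groth.Agent.HyperGen
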