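import Groth.Agent.HyperGen.Classes
import Groth.Agent.PuncSecLib.LocFree

/-!
Annihilators of the maps induced on local cohomology by reductions between quotients by powers of a
regular element, and their transfer to modules which are locally retracts of free ones.
-/

set_option autoImplicit false
set_option linter.style.haveILetI false
set_option backward.isDefEq.respectTransparency false
set_option maxHeartbeats 1000000
set_option maxRecDepth 3000

universe u

open CategoryTheory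

noncomputable section

namespace Groth.Agent.HyperGen

open PuncSecLib

variable {A : Type u} [CommRing A] [IsNoetherianRing A] (𝔞 : Ideal A)

/-- The map induced on local cohomology. -/
abbrev Hm {N N' : Type u} [AddCommGroup N] [Module A N] [AddCommGroup N'] [Module A N'] (i : ℕ)
    (φ : N →ₗ[A] N') : LocCoh.H 𝔞 i N →ₗ[A] LocCoh.H 𝔞 i N' :=
  ((localCohomology 𝔞 i).map (ModuleCat.ofHom φ)).hom

variable {𝔞}
variable {N N' N'' : Type u} [AddCommGroup N] [Module A N] [AddCommGroup N'] [Module A N']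
  [AddCommGroup N''] [Module A N''] {i : ℕ}

theorem Hm_comp (φ : N →ₗ[A] N') (ψ : N' →ₗ[A] N'') (z : LocCoh.H 𝔞 i N) :
    Hm 𝔞 i (ψ.comp φ) z = Hm 𝔞 i ψ (Hm 𝔞 i φ z) :=
  (map_loc_apply (ModuleCat.ofHom φ) (ModuleCat.ofHom ψ) i z).symm

theorem Hm_add (φ ψ : N →ₗ[A] N') (z : LocCoh.H 𝔞 i N) : Hm 𝔞 i (φ + ψ) z = Hm 𝔞 i φ z + Hm 𝔞 i ψ z := by
  obtain ⟨n, x, rfl⟩ := LocCohLib.exists_ι z
  simp only [Hm, LocCohLib.map_ι]
  rw [← map_add, ← Abelian.Ext.comp_add, ← Abelian.Ext.mk₀_add]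
  rfl

theorem Hm_smul (a : A) (φ : N →ₗ[A] N') (z : LocCoh.H 𝔞 i N) : Hm 𝔞 i (a • φ) z = a • Hm 𝔞 i φ z := by
  rw [show a • φ = (a • LinearMap.id).comp φ from LinearMap.ext fun x => rfl, Hm_comp]
  exact map_smul_id (ModuleCat.of A N') a i _

theorem Hm_zero (z : LocCoh.H 𝔞 i N) : Hm 𝔞 i (0 : N →ₗ[A] N') z = 0 := by
  have h := Hm_smul (0 : A) (0 : N →ₗ[A] N') z
  rwa [zero_smul, zero_smul] at h

theorem Kills.comp_left {φ : N →ₗ[A] N'} {a : A} (h : Kills 𝔞 i φ a) (ψ : N' →ₗ[A] N'') :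
    Kills 𝔞 i (ψ.comp φ) a := fun z => by
  show a • Hm 𝔞 i (ψ.comp φ) z = 0
  rw [Hm_comp, ← map_smul, show a • Hm 𝔞 i φ z = 0 from h z, map_zero]

theorem Kills.comp_right {φ : N' →ₗ[A] N''} {a : A} (h : Kills 𝔞 i φ a) (ψ : N →ₗ[A] N') :
    Kills 𝔞 i (φ.comp ψ) a := fun z => by
  show a • Hm 𝔞 i (φ.comp ψ) z = 0
  rw [Hm_comp]
  exact h _

theorem Kills.compLeft {φ : N →ₗ[A] N'} {a : A} (h : Kills 𝔞 i φ a) (r : ℕ) :
    Kills 𝔞 i (φ.compLeft (Fin r)) a := by
  classical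
  have he : φ.compLeft (Fin r) =
      ∑ j, ((LinearMap.single A (fun _ => N') j).comp φ).comp (LinearMap.proj j) :=
    LinearMap.ext fun v => by
      rw [LinearMap.sum_apply]
      exact (Finset.univ_sum_single _).symm
  rw [he]
  refine Finset.sum_induction _ (fun ψ => Kills 𝔞 i ψ a) (fun p q hp hq z => ?_) (fun z => ?_)
    fun j _ => (h.comp_left _).comp_right _
  · show a • Hm 𝔞 i (p + q) z = 0
    rw [Hm_add, smul_add, show a • Hm 𝔞 i p z = 0 from hp z, show a • Hm 𝔞 i q z = 0 from hq z, add_zero]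
  · show a • Hm 𝔞 i 0 z = 0
    rw [Hm_zero, smul_zero]

variable (𝔞) (i) in
/-- The ideal of annihilators. -/
def killIdeal (φ : N →ₗ[A] N') : Ideal A where
  carrier := {a | Kills 𝔞 i φ a}
  add_mem' ha hb z := by rw [add_smul, ha z, hb z, add_zero]
  zero_mem' z := zero_smul A _
  smul_mem' c a ha z := by rw [smul_eq_mul, mul_smul, ha z, smul_zero]

theorem range_lsmul_eq_ker (c : A) :
    LinearMap.range (LinearMap.lsmul A A c) = LinearMap.ker (Submodule.mkQ (Ideal.span {c})) := by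
  rw [Submodule.ker_mkQ]
  ext x
  constructor
  · rintro ⟨y, rfl⟩; exact Ideal.mem_span_singleton'.2 ⟨y, mul_comm y c⟩
  · intro hx
    obtain ⟨y, rfl⟩ := Ideal.mem_span_singleton'.1 hx
    exact ⟨y, mul_comm c y⟩

theorem shortExact_pow {f : A} (hf : f ∈ nonZeroDivisors A) (p : ℕ) :
    (mseq (range_lsmul_eq_ker (f ^ p))).ShortExact where
  exact := ShortComplex.Exact.moduleCat_of_range_eq_ker _ _ (range_lsmul_eq_ker _)
  mono_f := (ModuleCat.mono_iff_injective _).2 fun x y h =>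
    (mul_cancel_left_mem_nonZeroDivisors (pow_mem hf p)).1 h
  epi_g := (ModuleCat.epi_iff_surjective _).2 (Submodule.mkQ_surjective _)

/-- The reduction between quotients by powers. -/
abbrev red (f : A) {p q : ℕ} (h : q ≤ p) : (A ⧸ Ideal.span {f ^ p}) →ₗ[A] A ⧸ Ideal.span {f ^ q} :=
  Submodule.mapQ _ _ LinearMap.id (Ideal.span_singleton_le_span_singleton.2 (pow_dvd_pow f h))

theorem kills_free {f : A} (hf : f ∈ nonZeroDivisors A) {p q : ℕ} (h : q ≤ p) (i : ℕ) (a b e : A)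
    (ha : ∀ x : LocCoh.H 𝔞 (i + 1) A, (a * f ^ (p - q)) • x = 0)
    (hb : ∀ x : LocCoh.H 𝔞 i A, (b * e) • x = 0) :
    Kills 𝔞 i (e • red f h) (b * a) := fun z => by
  show (b * a) • Hm 𝔞 i (e • red f h) z = 0
  have hδ : Hm 𝔞 (i + 1) (f ^ (p - q) • (LinearMap.id : A →ₗ[A] A)) (LocCohLib.δ 𝔞 (shortExact_pow hf p) i z) =
      LocCohLib.δ 𝔞 (shortExact_pow hf q) i (Hm 𝔞 i (red f h) z) :=
    LocCohLib.δ_naturality 𝔞 (shortExact_pow hf p) (shortExact_pow hf q)
      (ShortComplex.homMk (S₁ := mseq (range_lsmul_eq_ker (f ^ p))) (S₂ := mseq (range_lsmul_eq_ker (f ^ q)))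
        (ModuleCat.ofHom (f ^ (p - q) • (LinearMap.id : A →ₗ[A] A))) (ModuleCat.ofHom LinearMap.id)
        (ModuleCat.ofHom (red f h))
        (ModuleCat.hom_ext (LinearMap.ext fun (x : A) => by
          show f ^ q * (f ^ (p - q) * x) = f ^ p * x
          rw [← mul_assoc, ← pow_add, Nat.add_sub_cancel' h]))
        (ModuleCat.hom_ext (LinearMap.ext fun x => rfl))) i z
  have h0 : LocCohLib.δ 𝔞 (shortExact_pow hf q) i (a • Hm 𝔞 i (red f h) z) = 0 := by
    rw [map_smul, ← hδ, Hm_smul, smul_smul]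
    rw [show Hm 𝔞 (i + 1) (LinearMap.id : A →ₗ[A] A) = LinearMap.id by
      simp [Hm]]
    exact ha _
  obtain ⟨y, hy⟩ := LocCohLib.exists_of_δ_eq_zero 𝔞 (shortExact_pow hf q) i _ h0
  have h1 : (b * e) • a • Hm 𝔞 i (red f h) z = 0 := by
    refine (congrArg ((b * e) • ·) hy.symm).trans ?_
    exact (map_smul _ (b * e) y).symm.trans ((congrArg _ (hb y)).trans (map_zero _))
  rw [Hm_smul, smul_smul, mul_right_comm, mul_smul, h1]

/-- Transfer to a map which is locally, up to a power of a generator, induced by a map of free modules. -/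
theorem kills_of_retract {f : A} {p q : ℕ} (h : q ≤ p) (e : A) (φ : N →ₗ[A] N') (hq : ∀ x : N', f ^ q • x = 0)
    (c : A) {r : ℕ} (α : N →ₗ[A] Fin r → A ⧸ Ideal.span {f ^ p}) (β : (Fin r → A ⧸ Ideal.span {f ^ p}) →ₗ[A] N')
    (hβ : ∀ x, β (α x) = c • φ x) {a : A} (ha : Kills 𝔞 i (e • red f h) a) :
    Kills 𝔞 i (e • φ) (c * a) := by
  classical
  let H : (Fin r → A ⧸ Ideal.span {f ^ q}) →ₗ[A] N' :=
    LinearMap.lsum A (fun _ => A ⧸ Ideal.span {f ^ q}) A fun j =>
      Submodule.liftQ _ (LinearMap.toSpanSingleton A N' (β (Pi.single j 1))) (by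
        intro x hx
        obtain ⟨y, rfl⟩ := Ideal.mem_span_singleton'.1 hx
        rw [LinearMap.mem_ker, LinearMap.toSpanSingleton_apply, mul_smul, hq, smul_zero])
  have hH : ∀ v, H ((red f h).compLeft (Fin r) v) = β v := fun v => by
    conv_rhs => rw [← Finset.univ_sum_single v, map_sum]
    simp only [H, LinearMap.lsum_apply, LinearMap.sum_apply, LinearMap.comp_apply, LinearMap.proj_apply]
    refine Finset.sum_congr rfl fun j _ => ?_
    obtain ⟨x, hx⟩ := Submodule.Quotient.mk_surjective _ (v j)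
    show (Submodule.liftQ _ _ _) (red f h (v j)) = β (Pi.single j (v j))
    rw [← hx, show (Submodule.Quotient.mk x : A ⧸ Ideal.span {f ^ p}) = x • (1 : A ⧸ Ideal.span {f ^ p}) by
      rw [Algebra.smul_def, mul_one]; rfl]
    rw [Pi.single_smul, map_smul, map_smul, map_smul]
    congr 1
    exact one_smul A _
  have hfac : c • (e • φ) = (H.comp ((e • red f h).compLeft (Fin r))).comp α := LinearMap.ext fun x => by
    show c • e • φ x = H (e • (red f h).compLeft (Fin r) (α x))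
    rw [map_smul, hH, hβ, smul_comm]
  intro z
  show (c * a) • Hm 𝔞 i (e • φ) z = 0
  rw [mul_comm, mul_smul, ← Hm_smul, hfac]
  exact ((ha.compLeft r).comp_left H).comp_right α z

/-- A power of the ideal annihilates when the generators have local retractions. -/
theorem exists_pow_kills {ι : Type u} (g : ι → A) {f : A} {p q : ℕ} (h : q ≤ p) (e : A) (φ : N →ₗ[A] N')
    (hq : ∀ x : N', f ^ q • x = 0)
    (hs : ∀ j, ∃ (r k : ℕ) (α : N →ₗ[A] Fin r → A ⧸ Ideal.span {f ^ p})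
      (β : (Fin r → A ⧸ Ideal.span {f ^ p}) →ₗ[A] N'), ∀ x, β (α x) = g j ^ k • φ x)
    (hfree : ∀ j, g j ∈ (killIdeal (Ideal.span (Set.range g)) i (e • red f h)).radical) :
    ∃ T : ℕ, ∀ b ∈ Ideal.span (Set.range g) ^ T, Kills (Ideal.span (Set.range g)) i (e • φ) b :=
  Ideal.exists_pow_le_of_le_radical_of_fg (J := killIdeal (Ideal.span (Set.range g)) i (e • φ)) (Ideal.span_le.2 (by
    rintro _ ⟨j, rfl⟩
    obtain ⟨r, k, α, β, hβ⟩ := hs j
    obtain ⟨n, hn⟩ := hfree j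
    exact ⟨k + n, by rw [pow_add]; exact kills_of_retract h e φ hq (g j ^ k) α β hβ hn⟩)) (IsNoetherian.noetherian _)

end Groth.Agent.HyperGen
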