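import Groth.Agent.HyperGen.Tower
import Groth.Agent.HyperGen.Kills
import Groth.Agent.LocCohLib.MaxIdeal

/-!
The limit of a tower of sections on a punctured spectrum, given annihilators of the local cohomology of
the ring.
-/

set_option autoImplicit false
set_option linter.style.haveILetI false
set_option backward.isDefEq.respectTransparency.types false
set_option linter.unusedSectionVars false
set_option maxHeartbeats 1600000
set_option maxRecDepth 3000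

universe u

open CategoryTheory AlgebraicGeometry

noncomputable section

namespace Groth.Agent.HyperGen

open PuncSecLib

variable {A : Type u} [CommRing A] [IsNoetherianRing A] [IsLocalRing A]

/-- Annihilators of the local cohomology of the ring. -/
structure Annih (f : A) where
  J : Ideal A
  t : ℕ
  n : ℕ
  small : ∀ r : Ideal A, r.IsPrime → J ≤ r → f ∈ r → r = IsLocalRing.maximalIdeal A
  kill : ∀ a ∈ J, ∀ i ≤ 3, ∀ x : LocCoh.H (IsLocalRing.maximalIdeal A) i A, (a * f ^ n) • x = 0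
  killOne : ∀ b ∈ IsLocalRing.maximalIdeal A ^ t, ∀ x : LocCoh.H (IsLocalRing.maximalIdeal A) 1 A, b • x = 0

variable {ι : Type u} [Finite ι] {g : ι → A} (hgm : Ideal.span (Set.range g) = IsLocalRing.maximalIdeal A)

local notation "𝔤" => Ideal.span (Set.range g)

include hgm in
theorem gen_mem_radical {f : A} {K I : Ideal A} (small : ∀ r : Ideal A, r.IsPrime → I ≤ r → f ∈ r →
    r = IsLocalRing.maximalIdeal A) (hf : f ∈ K.radical) (hI : ∀ a ∈ I, a ∈ K.radical) (j : ι) : g j ∈ K.radical := by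
  rw [Ideal.radical_eq_sInf, Submodule.mem_sInf]
  rintro r ⟨hKr, hr⟩
  rw [small r hr (fun a ha => hr.radical_le_iff.2 hKr (hI a ha)) (hr.radical_le_iff.2 hKr hf), ← hgm]
  exact Ideal.subset_span (Set.mem_range_self j)

include hgm in
theorem gen_mem_killIdeal {f : A} (hf : f ∈ nonZeroDivisors A) (an : Annih f) {p q : ℕ} (h : q ≤ p) (i : ℕ) (e : A)
    (hi : i + 1 ≤ 3) (hpq : an.n ≤ p - q) (hb : ∃ I : Ideal A, (∀ r : Ideal A, r.IsPrime → I ≤ r → f ∈ r →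
      r = IsLocalRing.maximalIdeal A) ∧ ∀ b ∈ I, ∀ x : LocCoh.H 𝔤 i A, (b * e) • x = 0) (j : ι) :
    g j ∈ (killIdeal 𝔤 i (e • red f h)).radical := by
  obtain ⟨I, hI, hbI⟩ := hb
  have hf' : f ∈ (killIdeal 𝔤 i (e • red f h)).radical := ⟨q, fun z => by
    show f ^ q • Hm 𝔤 i (e • red f h) z = 0
    rw [← Hm_smul, show f ^ q • e • red f h = 0 from LinearMap.ext fun x => by
      obtain ⟨y, hy⟩ := Submodule.Quotient.mk_surjective _ ((e • red f h) x)
      show f ^ q • (e • red f h) x = 0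
      rw [← hy, ← Submodule.Quotient.mk_smul]
      exact (Submodule.Quotient.mk_eq_zero _).2 (Ideal.mul_mem_right _ _ (Ideal.mem_span_singleton_self _)), Hm_zero]⟩
  refine gen_mem_radical hgm (I := an.J * I) (fun r hr hle hfr => ?_) hf' (fun c hc => Ideal.le_radical ?_) j
  · exact (hr.mul_le.1 hle).elim (fun h' => an.small r hr h' hfr) (fun h' => hI r hr h' hfr)
  · refine (show an.J * I ≤ killIdeal 𝔤 i (e • red f h) from Ideal.mul_le.2 fun a ha b hb => ?_) hc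
    rw [mul_comm]
    refine kills_free hf h i a b e (fun x => ?_) (hbI b hb)
    have hk : ∀ x : LocCoh.H 𝔤 (i + 1) A, (a * f ^ an.n) • x = 0 := hgm ▸ an.kill a ha (i + 1) hi
    rw [← Nat.add_sub_cancel' hpq, pow_add, ← mul_assoc, mul_comm, mul_smul, hk, smul_zero]

variable {f : A} {G : ℕ → (LocCoh.puncturedOpen A (Ideal.span (Set.range g)) : Scheme.{u}).Modules}

theorem exists_pow_mem {M : Type u} [AddCommGroup M] [Module A M] (N : Submodule A M)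
    (hN : ∀ j (z : M), ∃ k : ℕ, g j ^ k • z ∈ N) (z : M) : ∃ K, ∀ b ∈ 𝔤 ^ K, b • z ∈ N :=
  Ideal.exists_pow_le_of_le_radical_of_fg (J := N.comap (LinearMap.toSpanSingleton A M z)) (Ideal.span_le.2 (by
    rintro _ ⟨j, rfl⟩
    exact hN j z)) (IsNoetherian.noetherian _)

theorem exists_sub (T : Tower 𝔤 f G) (hfin : ∀ c, ∃ N : Submodule A (Γp 𝔤 (G c)), Module.Finite A N ∧ ∀ (j : ι) (z : Γp 𝔤 (G c)), ∃ k : ℕ, g j ^ k • z ∈ N)
    {m n : ℕ} (h : m ≤ n) (Nm : Submodule A (Γp 𝔤 (G m))) (hNm : ∀ j z, ∃ k, g j ^ k • z ∈ Nm) :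
    ∃ Nn : Submodule A (Γp 𝔤 (G n)), Module.Finite A Nn ∧ (∀ j z, ∃ k, g j ^ k • z ∈ Nn) ∧
      Nn ≤ Nm.comap (T.P h) := by
  obtain ⟨N, hN, hNg⟩ := hfin n
  haveI := isNoetherian_of_isNoetherianRing_of_finite A N
  refine ⟨N ⊓ Nm.comap (T.P h), Module.Finite.iff_fg.2 (Submodule.FG.of_le (Module.Finite.iff_fg.1 hN) inf_le_left),
    fun j z => ?_, inf_le_right⟩
  obtain ⟨k, hk⟩ := hNg j z
  obtain ⟨l, hl⟩ := hNm j (T.P h (g j ^ k • z))
  refine ⟨l + k, ?_, ?_⟩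
  · rw [pow_add, mul_smul]; exact N.smul_mem _ hk
  · show T.P h _ ∈ Nm
    rw [pow_add, mul_smul, map_smul]; exact hl

include hgm in
theorem finite_range_pr (hf : f ∈ nonZeroDivisors A) (an : Annih f) (T : Tower 𝔤 f G)
    (hcl : ∀ n, HyperAlg.IsClosedMod g (Γp 𝔤 (G n)))
    (hfin : ∀ c, ∃ N : Submodule A (Γp 𝔤 (G c)), Module.Finite A N ∧ ∀ (j : ι) (z : Γp 𝔤 (G c)), ∃ k : ℕ, g j ^ k • z ∈ N)
    (hsplit : ∀ c (N : Submodule A (Γp 𝔤 (G c))) [Module.Finite A N], (∀ (j : ι) (z : Γp 𝔤 (G c)), ∃ k : ℕ, g j ^ k • z ∈ N) →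
      ∀ j, ∃ (r k : ℕ) (α : N →ₗ[A] Fin r → A ⧸ Ideal.span {f ^ (c + 1)})
        (β : (Fin r → A ⧸ Ideal.span {f ^ (c + 1)}) →ₗ[A] N), ∀ x, β (α x) = g j ^ k • x) :
    Module.Finite A (LinearMap.range (T.pr 0)) := by
  classical
  haveI := Fintype.ofFinite ι
  have hgmem : ∀ j, g j ∈ 𝔤 := fun j => Ideal.subset_span (Set.mem_range_self j)
  obtain ⟨N₀, hN₀, hN₀g⟩ := hfin 0
  haveI := hN₀
  haveI := isNoetherian_of_isNoetherianRing_of_finite A N₀
  -- finiteness of the image in level zero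
  let n₁ := max an.n 1
  have hn₁ : an.n ≤ n₁ := le_max_left _ _
  obtain ⟨N₁, hN₁, hN₁g, hN₁le⟩ := exists_sub T hfin (Nat.zero_le n₁) N₀ hN₀g
  haveI := hN₁
  let φ₁ : N₁ →ₗ[A] N₀ := (T.P (Nat.zero_le n₁)).restrict hN₁le
  have hq₁ : ∀ x : N₀, f ^ 1 • x = 0 := fun x => Subtype.ext (T.killed 0 (x : Γp 𝔤 (G 0)))
  obtain ⟨T₁, hT₁⟩ := exists_pow_kills g (show 1 ≤ n₁ + 1 by omega) (1 : A) φ₁ (i := 1) hq₁ (fun j => by
      obtain ⟨r, k, α, β, hβ⟩ := hsplit n₁ N₁ hN₁g j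
      exact ⟨r, k, α, φ₁.comp β, fun x => by rw [LinearMap.comp_apply, hβ, map_smul]⟩)
    (gen_mem_killIdeal hgm hf an _ 1 1 (by norm_num) (by omega) ⟨IsLocalRing.maximalIdeal A ^ an.t,
      fun r hr hle _ => le_antisymm (IsLocalRing.le_maximalIdeal hr.ne_top) (hr.le_of_pow_le hle),
      fun b hb x => by
        have hk : ∀ x : LocCoh.H 𝔤 1 A, b • x = 0 := hgm ▸ an.killOne b hb
        rw [mul_one]; exact hk x⟩)
  have hrange : ∀ x : T.Lim, ∀ a ∈ 𝔤 ^ T₁, a • T.pr 0 x ∈ N₀ := fun x a ha => by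
    obtain ⟨K, hK⟩ := exists_pow_mem N₁ hN₁g (T.pr n₁ x)
    let v : ↥(𝔤 ^ K) →ₗ[A] N₁ :=
      ((LinearMap.toSpanSingleton A _ (T.pr n₁ x)).comp (Submodule.subtype (𝔤 ^ K))).codRestrict N₁
        fun c => hK c.1 c.2
    have hk1 : Kills 𝔤 1 φ₁ a := by simpa using hT₁ a ha
    obtain ⟨M, z, hz⟩ := exists_elt_of_kills hk1 K v
    have hP : ∀ m (h : 0 ≤ m), T.P h (x.1 m) = x.1 0 := fun m => by
      induction m with
      | zero => intro h; exact T.P_self 0 _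
      | succ m ih => intro h; rw [T.P_succ (Nat.zero_le m), x.2 m]; exact ih _
    have he : a • T.pr 0 x = (z : Γp 𝔤 (G 0)) := sub_eq_zero.1 ((hcl 0).sep _ fun j => ⟨M + K, by
      have h1 := congrArg Subtype.val (hz (g j ^ M) (Ideal.pow_mem_pow (hgmem j) M) (g j ^ K)
        (Ideal.pow_mem_pow (hgmem j) K))
      have h2 : ((φ₁ (v ⟨g j ^ K, Ideal.pow_mem_pow (hgmem j) K⟩) : N₀) : Γp 𝔤 (G 0)) = g j ^ K • T.pr 0 x :=
        (map_smul (T.P (Nat.zero_le n₁)) (g j ^ K) (T.pr n₁ x)).trans (congrArg _ (hP n₁ _))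
      simp only [Submodule.coe_smul, h2] at h1
      rw [smul_sub, pow_add, mul_smul, mul_smul, sub_eq_zero, smul_comm _ a, h1]⟩)
    rw [he]
    exact z.2
  haveI : Module.Finite A (LinearMap.range (T.pr 0)) := by
    let σ : LinearMap.range (T.pr 0) →ₗ[A] (ι → N₀) := LinearMap.pi fun j =>
      ((g j ^ T₁) • (LinearMap.range (T.pr 0)).subtype).codRestrict N₀ fun y => by
        obtain ⟨_, x, rfl⟩ := y
        exact hrange x _ (Ideal.pow_mem_pow (hgmem j) T₁)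
    refine Module.Finite.of_injective σ ((injective_iff_map_eq_zero _).2 fun y hy => Subtype.ext ?_)
    exact (hcl 0).sep _ fun j => ⟨T₁, congrArg Subtype.val (congrFun hy j)⟩
  assumption

include hgm in
theorem isArtinian_obs_level_zero (N₀ : Submodule A (Γp 𝔤 (G 0))) [Module.Finite A N₀]
    (hN₀g : ∀ j z, ∃ k, g j ^ k • z ∈ N₀) {E : ModuleCat.{u} A} (hE : Module.Injective A E)
    (incl : Γp 𝔤 (G 0) →ₗ[A] E) (hincl : Function.Injective incl) :
    IsArtinian A (Obs 𝔤 (↥E ⧸ LinearMap.range incl)) := by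
  haveI := hE
  have hS : (mseq (φ := incl) (ψ := (LinearMap.range incl).mkQ) (Submodule.ker_mkQ _).symm).ShortExact :=
    { exact := ShortComplex.Exact.moduleCat_of_range_eq_ker _ _ (Submodule.ker_mkQ _).symm
      mono_f := (ModuleCat.mono_iff_injective _).2 hincl
      epi_g := (ModuleCat.epi_iff_surjective _).2 (Submodule.mkQ_surjective _) }
  have hS' : (mseq (φ := N₀.subtype) (ψ := N₀.mkQ) ((Submodule.range_subtype N₀).trans (Submodule.ker_mkQ N₀).symm)).ShortExact :=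
    { exact := ShortComplex.Exact.moduleCat_of_range_eq_ker _ _ ((Submodule.range_subtype N₀).trans (Submodule.ker_mkQ N₀).symm)
      mono_f := (ModuleCat.mono_iff_injective _).2 Subtype.val_injective
      epi_g := (ModuleCat.epi_iff_surjective _).2 (Submodule.mkQ_surjective _) }
  have hN2' : ∀ I : Ideal A, I = IsLocalRing.maximalIdeal A → IsArtinian A (LocCoh.H I 2 N₀) := by
    rintro I rfl
    exact LocCohLib.isArtinian_H 2 N₀
  haveI hN2 : IsArtinian A (LocCoh.H 𝔤 2 N₀) := hN2' _ hgm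
  haveI hsub : Subsingleton ((localCohomology 𝔤 2).obj (ModuleCat.of A (Γp 𝔤 (G 0) ⧸ N₀)) : Type u) :=
    LocCohLib.subsingleton_of_torsion _ (fun z => by
      obtain ⟨z, rfl⟩ := Submodule.Quotient.mk_surjective _ z
      obtain ⟨K, hK⟩ := exists_pow_mem N₀ hN₀g z
      exact ⟨K, fun b hb => (Submodule.Quotient.mk_eq_zero _).2 (hK b hb)⟩) 1
  haveI hΓ2 : IsArtinian A (LocCoh.H 𝔤 2 (Γp 𝔤 (G 0))) :=
    isArtinian_of_surjective (LocCoh.H 𝔤 2 N₀) (Hm 𝔤 2 N₀.subtype) fun z =>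
      LocCohLib.exists_of_map_g_eq_zero 𝔤 hS' 2 z (@Subsingleton.elim _ hsub _ _)
  haveI : Injective (mseq (φ := incl) (ψ := (LinearMap.range incl).mkQ) (Submodule.ker_mkQ _).symm).X₂ :=
    Module.injective_object_of_injective_module A E
  haveI : Subsingleton ((localCohomology 𝔤 1).obj
      (mseq (φ := incl) (ψ := (LinearMap.range incl).mkQ) (Submodule.ker_mkQ _).symm).X₂ : Type u) :=
    LocCohLib.subsingleton_of_injective 0
  haveI : IsArtinian A ((localCohomology 𝔤 (1 + 1)).obj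
      (mseq (φ := incl) (ψ := (LinearMap.range incl).mkQ) (Submodule.ker_mkQ _).symm).X₁ : Type u) := hΓ2
  haveI : IsArtinian A (LocCoh.H 𝔤 1 (↥E ⧸ LinearMap.range incl)) :=
    isArtinian_of_injective (LocCohLib.δ 𝔤 hS 1) ((injective_iff_map_eq_zero _).2 fun z hz => by
      obtain ⟨w, rfl⟩ := LocCohLib.exists_of_δ_eq_zero 𝔤 hS 1 z hz
      exact (congrArg _ (Subsingleton.elim w 0)).trans (map_zero _))
  exact isArtinian_obs 𝔤

include hgm in
theorem exists_bound (hf : f ∈ nonZeroDivisors A) (an : Annih f) (T : Tower 𝔤 f G)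
    (hcl : ∀ n, HyperAlg.IsClosedMod g (Γp 𝔤 (G n)))
    (hfin : ∀ c, ∃ N : Submodule A (Γp 𝔤 (G c)), Module.Finite A N ∧ ∀ (j : ι) (z : Γp 𝔤 (G c)), ∃ k : ℕ, g j ^ k • z ∈ N)
    (hsplit : ∀ c (N : Submodule A (Γp 𝔤 (G c))) [Module.Finite A N], (∀ (j : ι) (z : Γp 𝔤 (G c)), ∃ k : ℕ, g j ^ k • z ∈ N) →
      ∀ j, ∃ (r k : ℕ) (α : N →ₗ[A] Fin r → A ⧸ Ideal.span {f ^ (c + 1)})
        (β : (Fin r → A ⧸ Ideal.span {f ^ (c + 1)}) →ₗ[A] N), ∀ x, β (α x) = g j ^ k • x) :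
    ∃ N T₂ : ℕ, 1 ≤ N ∧ ∀ b ∈ 𝔤 ^ T₂, ∀ (M : ℕ) (hM : N + N ≤ M) (k : ℕ) (x : ι → Γp 𝔤 (G M))
      (e : ι → ι → Γp 𝔤 (G (N + N))), (∀ i j, up T hM (e i j) = g j ^ k • x i - g i ^ k • x j) →
      ∃ (l : ℕ) (w : ι → Γp 𝔤 (G N)), ∀ i j,
        (g i * g j) ^ l • b • f ^ N • T.P (Nat.le_add_right N N) (e i j) =
          g j ^ (k + l) • w i - g i ^ (k + l) • w j := by
  classical
  haveI := Fintype.ofFinite ι
  have hgmem : ∀ j, g j ∈ 𝔤 := fun j => Ideal.subset_span (Set.mem_range_self j)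
  let N := max an.n 1
  have hN : an.n ≤ N := le_max_left _ _
  obtain ⟨NN, hNN, hNNg⟩ := hfin N
  obtain ⟨N₂, hN₂, hN₂g, hN₂le⟩ := exists_sub T hfin (Nat.le_add_right N N) NN hNNg
  haveI := hN₂
  haveI := hNN
  let φ₂ : N₂ →ₗ[A] NN := (T.P (Nat.le_add_right N N)).restrict hN₂le
  have hq₂ : ∀ x : NN, f ^ (N + 1) • x = 0 := fun x => Subtype.ext (T.killed N (x : Γp 𝔤 (G N)))
  obtain ⟨T₂, hT₂⟩ := exists_pow_kills g (show N + 1 ≤ N + N + 1 by omega) (f ^ N) φ₂ (i := 2) hq₂ (fun j => by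
      obtain ⟨r, k, α, β, hβ⟩ := hsplit (N + N) N₂ hN₂g j
      exact ⟨r, k, α, φ₂.comp β, fun x => by rw [LinearMap.comp_apply, hβ, map_smul]⟩)
    (gen_mem_killIdeal hgm hf an _ 2 (f ^ N) le_rfl (by omega) ⟨an.J, an.small, fun b hb x => by
        have hk : ∀ x : LocCoh.H 𝔤 2 A, (b * f ^ an.n) • x = 0 := hgm ▸ an.kill b hb 2 (by norm_num)
        rw [← Nat.add_sub_cancel' hN, pow_add, ← mul_assoc, mul_comm, mul_smul, hk, smul_zero]⟩)
  refine ⟨N, T₂, le_max_right _ _, fun b hb M hM k x e he => ?_⟩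
  choose s₀ hs₀ using fun p : ι × ι => exists_pow_mem N₂ hN₂g (e p.1 p.2)
  let s := Finset.univ.sup s₀
  have hmem : ∀ i j, (g i * g j) ^ s • e i j ∈ N₂ := fun i j =>
    hs₀ (i, j) _ (Ideal.pow_le_pow_right (Finset.le_sup (Finset.mem_univ (i, j)))
      (Ideal.pow_mem_pow (Ideal.mul_mem_right _ _ (hgmem i)) s))
  obtain ⟨l, w, hw⟩ := exists_cobound_of_kills g (hT₂ b hb) ((up T hM).comp N₂.subtype)
    (fun p q hpq => Subtype.ext (up_injective T hM hpq)) (k + s) (fun i => g i ^ s • x i)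
    (fun i j => ⟨_, hmem i j⟩) (fun i j => by
      show up T hM ((g i * g j) ^ s • e i j) = _
      rw [map_smul, he]
      simp only [smul_sub, smul_smul]
      congr 2 <;> ring)
  refine ⟨s + l, fun i => (w i : Γp 𝔤 (G N)), fun i j => ?_⟩
  have h1 : (g i * g j) ^ l • b • f ^ N • T.P (Nat.le_add_right N N) ((g i * g j) ^ s • e i j) =
      g j ^ (k + s + l) • (w i : Γp 𝔤 (G N)) - g i ^ (k + s + l) • (w j : Γp 𝔤 (G N)) :=
    congrArg Subtype.val (hw i j)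
  rw [show k + (s + l) = k + s + l by omega, ← h1, map_smul]
  simp only [smul_smul]
  congr 1
  ring


include hgm in
theorem lim_good [IsAdicComplete (Ideal.span {f}) A] (hf : f ∈ nonZeroDivisors A) (an : Annih f) (T : Tower 𝔤 f G)
    (hcl : ∀ n, HyperAlg.IsClosedMod g (Γp 𝔤 (G n)))
    (hfin : ∀ c, ∃ N : Submodule A (Γp 𝔤 (G c)), Module.Finite A N ∧ ∀ (j : ι) (z : Γp 𝔤 (G c)), ∃ k : ℕ, g j ^ k • z ∈ N)
    (hsplit : ∀ c (N : Submodule A (Γp 𝔤 (G c))) [Module.Finite A N], (∀ (j : ι) (z : Γp 𝔤 (G c)), ∃ k : ℕ, g j ^ k • z ∈ N) →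
      ∀ j, ∃ (r k : ℕ) (α : N →ₗ[A] Fin r → A ⧸ Ideal.span {f ^ (c + 1)})
        (β : (Fin r → A ⧸ Ideal.span {f ^ (c + 1)}) →ₗ[A] N), ∀ x, β (α x) = g j ^ k • x) :
    Module.Finite A T.Lim ∧ ∀ n, CokTors 𝔤 (T.pr n) := by
  haveI h𝔤 : (𝔤).IsMaximal := hgm ▸ IsLocalRing.maximalIdeal.isMaximal A
  refine ⟨finite_lim_of_range T (finite_range_pr hgm hf an T hcl hfin hsplit), fun n => ?_⟩
  obtain ⟨E, incl, hE, hincl⟩ := exists_embedding (A := A) (Γp 𝔤 (G 0))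
  haveI := hE
  obtain ⟨N₀, hN₀, hN₀g⟩ := hfin 0
  haveI := hN₀
  have hArt := isArtinian_obs_level_zero hgm N₀ hN₀g hE incl hincl
  obtain ⟨N, T₂, hN, hlift⟩ := exists_bound hgm hf an T hcl hfin hsplit
  refine cokTors_pr_of_stable T incl hincl (stable_of_bound T incl hArt N T₂ fun m hm y b hb => ?_) n
  exact smul_d_mem g T hcl incl N hN b (hlift b hb) m hm y

end Groth.Agent.HyperGen
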