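import Groth.Agent.HyperAlg.ToSys
import Groth.Agent.HyperGen.Lim

/-!
Systems of algebras from compatible covers of thickenings of a punctured spectrum, and their limits.
-/

set_option autoImplicit false
set_option linter.style.haveILetI false
set_option backward.isDefEq.respectTransparency false
set_option backward.isDefEq.respectTransparency.types false
set_option maxHeartbeats 1600000
set_option synthInstance.maxHeartbeats 400000

universe u

open CategoryTheory CategoryTheory.Limits AlgebraicGeometry TopologicalSpace Opposite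

noncomputable section

namespace Groth.Agent.HyperGen

open HyperAlg PuncSecLib

variable {A : Type u} [CommRing A] {ι : Type u} [Finite ι] (g : ι → A) {f : A}
  {U : (Spec (CommRingCat.of A)).Opens} (hU : U = ⨆ j, PrimeSpectrum.basicOpen (g j)) (L : Levels f U)
  [IsNoetherianRing A]

include hU in
theorem split_level (n : ℕ) (N : Submodule A (Gam (L.q n))) [Module.Finite A N]
    (hN : ∀ j z, ∃ k, g j ^ k • z ∈ N) (j : ι) :
    ∃ (r k : ℕ) (α : N →ₗ[A] Fin r → A ⧸ Ideal.span {f ^ (n + 1)}) (β : (Fin r → A ⧸ Ideal.span {f ^ (n + 1)}) →ₗ[A] N),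
      ∀ m, β (α m) = g j ^ k • m := by
  obtain ⟨_, _⟩ := L.compactSpace g hU n
  let Ā := A ⧸ Ideal.span {f ^ (n + 1)}
  have htors : Module.IsTorsionBySet A N (Ideal.span {f ^ (n + 1)} : Set A) := by
    rintro x ⟨a, ha⟩
    obtain ⟨c, rfl⟩ := Ideal.mem_span_singleton'.1 ha
    exact Subtype.ext (by show (c * f ^ (n + 1)) • (x : Gam (L.q n)) = 0; rw [mul_smul, L.killed, smul_zero])
  letI : Module Ā N := Module.IsTorsionBySet.module htors
  haveI : IsScalarTower A Ā N := Module.IsTorsionBySet.isScalarTower htors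
  haveI : Module.Finite Ā N := Module.Finite.of_restrictScalars_finite A Ā N
  haveI := Module.finitePresentation_of_finite Ā N
  let Wr := Gam ((piece (L.q n) (g j)).ι ≫ L.q n)
  letI : Algebra Ā Wr := L.algQuot n (g j)
  haveI : IsScalarTower A Ā Wr := L.algQuot_tower n (g j)
  haveI : Module.Flat Ā Wr := L.flat_piece g hU n j
  let a : Ā := algebraMap A Ā (g j)
  let incl : N →ₗ[Ā] Wr := LinearMap.extendScalarsOfSurjective (R := A) (S := Ā) Ideal.Quotient.mk_surjective
    ((resP (L.q n) (g j)).toLinearMap.comp N.subtype)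
  have hincl : ∀ m : N, incl m = resP (L.q n) (g j) (m : Gam (L.q n)) := fun _ => rfl
  have hpow : ∀ (k : ℕ) (x : Wr), a ^ k • x = g j ^ k • x := fun k x => by rw [← map_pow, algebraMap_smul]
  have hpow' : ∀ (k : ℕ) (x : N), a ^ k • x = g j ^ k • x := fun k x => by rw [← map_pow, algebraMap_smul]
  haveI : IsLocalizedModule (Submonoid.powers a) incl := {
    map_units := by
      rintro ⟨_, k, rfl⟩
      rw [Module.End.isUnit_iff]
      have hu := (isUnit_piece (L.q n) (g j)).pow k
      have hact : ∀ x : Wr, algebraMap Ā (Module.End Ā Wr) (a ^ k) x =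
          algebraMap A (Gam ((piece (L.q n) (g j)).ι ≫ L.q n)) (g j) ^ k * x := fun x => by
        rw [Module.algebraMap_end_apply, hpow, Algebra.smul_def, map_pow]
      refine ⟨fun x y hxy => ?_, fun y => ⟨(↑hu.unit⁻¹ : Wr) * y, ?_⟩⟩
      · exact hu.mul_left_cancel ((hact x).symm.trans (hxy.trans (hact y)))
      · refine (hact _).trans ?_
        rw [← mul_assoc, IsUnit.mul_val_inv, one_mul]
    surj := fun y => by
      obtain ⟨k, z, hz⟩ := (res_piece_loc (L.q n) (g j)).1 y
      obtain ⟨l, hl⟩ := hN j z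
      refine ⟨(⟨_, hl⟩, ⟨a ^ (l + k), l + k, rfl⟩), ?_⟩
      rw [hincl, Submonoid.smul_def]
      show a ^ (l + k) • y = resP (L.q n) (g j) (g j ^ l • z)
      rw [hpow, map_smul, hz, smul_smul, pow_add]
    exists_of_eq := fun {x y} hxy => by
      rw [hincl, hincl, ← sub_eq_zero, ← map_sub] at hxy
      obtain ⟨k, hk⟩ := (res_piece_loc (L.q n) (g j)).2 _ hxy
      refine ⟨⟨a ^ k, k, rfl⟩, ?_⟩
      rw [Submonoid.smul_def, Submonoid.smul_def]
      show a ^ k • x = a ^ k • y
      rw [hpow', hpow']
      refine Subtype.ext (sub_eq_zero.1 ?_)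
      rw [Submodule.coe_smul, Submodule.coe_smul, ← smul_sub]
      exact hk }
  haveI : Module.Flat Ā (LocalizedModule (Submonoid.powers a) N) :=
    Module.Flat.of_linearEquiv (IsLocalizedModule.iso (Submonoid.powers a) incl)
  haveI : Module.Flat (Localization.Away a) (LocalizedModule (Submonoid.powers a) N) :=
    (Module.flat_iff_of_isLocalization (Localization.Away a) (Submonoid.powers a) _).2 inferInstance
  haveI : Module.Finite (Localization.Away a) (LocalizedModule (Submonoid.powers a) N) :=
    Module.Finite.of_isLocalizedModule (Submonoid.powers a) (LocalizedModule.mkLinearMap _ _)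
  haveI : IsNoetherianRing (Localization.Away a) :=
    IsLocalization.isNoetherianRing (Submonoid.powers a) _ inferInstance
  haveI := Module.finitePresentation_of_finite (Localization.Away a) (LocalizedModule (Submonoid.powers a) N)
  obtain ⟨r, k, α, β, h⟩ := HyperFEt.exists_retract (A := Ā) N a Module.Flat.projective_of_finitePresentation
  refine ⟨r, k, LinearMap.pi fun c => (α c).restrictScalars A,
    ∑ c, ((β c).restrictScalars A).comp (LinearMap.proj c), fun m => ?_⟩
  rw [LinearMap.sum_apply]
  refine Eq.trans ?_ ((h m).trans (hpow' k m))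
  exact Finset.sum_congr rfl fun c _ => rfl

include hU in
theorem exists_fin_level (n : ℕ) : ∃ N : Submodule A (Gam (L.q n)), Module.Finite A N ∧
    ∀ (j : ι) (z : Gam (L.q n)), ∃ k : ℕ, g j ^ k • z ∈ N := by
  classical
  haveI := L.finite n
  haveI := Fintype.ofFinite ι
  choose S hS using HyperFEt.exists_loc_gens A g U hU (L.π n)
  let T : Finset (Gam (L.q n)) := Finset.univ.biUnion fun i => S i
  exact ⟨Submodule.span A (T : Set (Gam (L.q n))), Module.Finite.iff_fg.2 (Submodule.fg_span T.finite_toSet),
    fun j z => (hS j z).imp fun m hm => Submodule.span_mono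
      (fun x hx => Finset.mem_biUnion.2 ⟨j, Finset.mem_univ j, hx⟩) hm⟩

variable [IsLocalRing A] [IsAdicComplete (Ideal.span {f}) A]

include hU in
/-- The limit of compatible covers is a finite algebra with the given reduction. -/
theorem exists_algebra (hgm : Ideal.span (Set.range g) = IsLocalRing.maximalIdeal A) (hf : f ∈ nonZeroDivisors A)
    (an : Annih f) :
    ∃ (B : Type u) (_ : CommRing B) (_ : Algebra A B) (_ : Module.Finite A B) (π : B →ₐ[A] Gam (L.q 0)),
      IsSMulRegular B f ∧ (∀ x, π x = 0 → ∃ y, f • y = x) ∧ ∀ j y, ∃ k x, π x = g j ^ k • y := by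
  haveI := L.finite 0
  haveI := fun n => (L.compactSpace g hU n).1
  haveI := fun n => (L.compactSpace g hU n).2
  let S : Sys f g := {
    Γ := fun n => Gam (L.q n)
    t := L.tr
    killed := L.killed
    closed := L.isClosedMod g hU
    surj := fun n j y => by
      obtain ⟨k, x, hx⟩ := (L.piece_step g hU n j).1 (resP (L.q n) (g j) y)
      obtain ⟨l, hl⟩ := (res_piece_loc (L.q n) (g j)).2 (L.tr n x - g j ^ k • y)
        (by rw [map_sub, hx, map_smul, sub_self])
      refine ⟨l + k, g j ^ l • x, ?_⟩
      rw [map_smul, pow_add, mul_smul, ← sub_eq_zero, ← smul_sub, hl]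
    ker := fun n j y hy => ((L.piece_step g hU n j).2 y).1 (by rw [hy, map_zero])
    reg := L.reg g hU hf
    fin := exists_fin_level g hU L 0 }
  obtain ⟨hfin, hcok⟩ := lim_good hgm hf an S.tower
    (fun n => ⟨fun z hz => (S.eq n).symm.map_eq_zero_iff.1 ((S.closed n).sep _ fun j => (hz j).imp fun k hk => by
        rw [← map_smul, hk, map_zero]),
      fun k y hy => by
        obtain ⟨x, hx⟩ := (S.closed n).glue k (fun j => (S.eq n).symm (y j)) fun i j => by
          rw [← map_smul, ← map_smul, hy]
        exact ⟨S.eq n x, fun j => by rw [← map_smul, hx, LinearEquiv.apply_symm_apply]⟩⟩)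
    (fun c => by
      obtain ⟨N, hN, hNg⟩ := exists_fin_level g hU L c
      haveI := hN
      refine ⟨N.map (S.eq c).toLinearMap, Module.Finite.map N _, fun j z => ?_⟩
      obtain ⟨k, hk⟩ := hNg j ((S.eq c).symm z)
      exact ⟨k, _, hk, by rw [LinearEquiv.coe_coe, map_smul, LinearEquiv.apply_symm_apply]⟩)
    (fun c N hN hNg j => by
      let N' : Submodule A (Gam (L.q c)) := N.map (S.eq c).symm.toLinearMap
      let e : N ≃ₗ[A] N' := (S.eq c).symm.submoduleMap N
      haveI : Module.Finite A N' := Module.Finite.equiv e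
      obtain ⟨r, k, α, β, hβ⟩ := split_level g hU L c N' (fun j z => by
        obtain ⟨k, hk⟩ := hNg j (S.eq c z)
        exact ⟨k, _, hk, by rw [LinearEquiv.coe_coe, map_smul, LinearEquiv.symm_apply_apply]⟩) j
      exact ⟨r, k, α.comp e.toLinearMap, e.symm.toLinearMap.comp β, fun x => by
        show e.symm (β (α (e x))) = _
        rw [hβ, map_smul, e.symm_apply_apply]⟩)
  haveI := hfin
  refine ⟨S.lim, inferInstance, inferInstance, Module.Finite.equiv S.limEquiv.symm,
    (Pi.evalAlgHom A S.Γ 0).comp S.lim.val, ?_, fun x hx => ?_, fun j y => ?_⟩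
  · refine isSMulRegular_iff_right_eq_zero_of_smul.2 fun x hx => Subtype.ext (funext fun n => ?_)
    show x.1 n = 0
    rw [← x.2 n]
    exact S.reg n _ (congrFun (congrArg Subtype.val hx) (n + 1))
  · obtain ⟨z, hz, -⟩ := S.tower.exists_eq_smul (S.limEquiv x) (by
      show S.eq 0 (x.1 0) = 0
      rw [show x.1 0 = 0 from hx, map_zero])
    refine ⟨S.limEquiv.symm z, S.limEquiv.injective ?_⟩
    rw [map_smul, LinearEquiv.apply_symm_apply, hz]
  · obtain ⟨k, hk⟩ := hcok 0 (S.eq 0 y)
    obtain ⟨x, hx⟩ := hk _ (Ideal.pow_mem_pow (Ideal.subset_span (Set.mem_range_self j)) k)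
    refine ⟨k, S.limEquiv.symm x, ?_⟩
    show (S.eq 0).symm (x.1 0) = _
    refine (S.eq 0).injective ?_
    rw [LinearEquiv.apply_symm_apply, map_smul]
    exact hx

end Groth.Agent.HyperGen
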