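import Groth.Agent.HyperGen.Ann
import Groth.Agent.HyperGen.Sys
import Groth.Agent.HyperGen.Glue
import Groth.Agent.HyperAlg.Purity
import Groth.Agent.S0377
import Groth.Agent.S0804

/-!
Removing the torsion supported on the primes which are bad for the equation, and neighbourhoods of covers of a
punctured hypersurface section.
-/

set_option autoImplicit false
set_option linter.style.haveILetI false
set_option backward.isDefEq.respectTransparency false
set_option backward.isDefEq.respectTransparency.types false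
set_option maxHeartbeats 1600000

universe u

open CategoryTheory CategoryTheory.Limits AlgebraicGeometry
attribute [local instance] HasDerivedCategory.standard

noncomputable section

namespace Groth.Agent.HyperGen

open FaltingsAnnLib DualCxLib HyperAlg

theorem depth_add_dim_gt (A : Type u) [CommRing A] [IsNoetherianRing A] [IsLocalRing A] (f : A)
    (hf : f ∈ IsLocalRing.maximalIdeal A) (hd : ∃ ω : Dual.D A, Dual.IsDualizing A ω)
    (hS : LocCoh.HasSk 2 (Localization.Away f) (Localization.Away f))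
    (hdim : ∀ p : Ideal A, p ∈ minimalPrimes A → f ∉ p → (4 : WithBot ℕ∞) ≤ ringKrullDim (A ⧸ p))
    (p : Ideal A) [p.IsPrime] (hfp : f ∉ p) (hnb : ¬ Bad f p) :
    (3 : WithBot ℕ∞) < (LocCoh.depth (Localization.AtPrime p) (Localization.AtPrime p) : WithBot ℕ∞) +
      ringKrullDim (A ⧸ p) := by
  obtain ⟨ω, hω⟩ := hd
  obtain ⟨p0, hp0, hle⟩ := Ideal.exists_minimalPrimes_le (bot_le : (⊥ : Ideal A) ≤ p)
  let m := IsLocalRing.closedPoint A
  let P : PrimeSpectrum A := ⟨p, ‹_›⟩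
  let Q : PrimeSpectrum A := ⟨p0, hp0.1.1⟩
  have hQP : Q ≤ P := hle
  have hPm : P ≤ m := show p ≤ IsLocalRing.maximalIdeal A from IsLocalRing.le_maximalIdeal P.2.ne_top
  have hPne : P ≠ m := fun h => hfp (by rw [show p = IsLocalRing.maximalIdeal A from congrArg PrimeSpectrum.asIdeal h]; exact hf)
  have hP : ringKrullDim (A ⧸ p) = (((dfn hω m - dfn hω P).toNat : ℕ) : WithBot ℕ∞) := by
    rw [← HyperFEt.krullDim_Icc_closedPoint A P, krullDim_Icc_eq hω hPm]
  have hQ : ringKrullDim (A ⧸ p0) = (((dfn hω m - dfn hω Q).toNat : ℕ) : WithBot ℕ∞) := by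
    rw [← HyperFEt.krullDim_Icc_closedPoint A Q, krullDim_Icc_eq hω (hQP.trans hPm)]
  have hQ4 : 4 ≤ (dfn hω m - dfn hω Q).toNat := by
    have h3 := hdim p0 hp0 (fun h => hfp (hle h))
    rw [hQ] at h3
    exact_mod_cast h3
  obtain ⟨r, hr, hpr, hfr, hrm⟩ : ∃ r : Ideal A, r.IsPrime ∧ p ≤ r ∧ f ∈ r ∧ r ≠ IsLocalRing.maximalIdeal A := by
    simpa only [Bad, not_and, hfp, not_false_eq_true, true_and, not_forall, exists_prop, forall_const] using hnb
  let R : PrimeSpectrum A := ⟨r, hr⟩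
  have hP2 : 2 ≤ (dfn hω m - dfn hω P).toNat := by
    have hPR : P < R := lt_of_le_of_ne hpr fun h => hfp (by rw [show p = r from congrArg PrimeSpectrum.asIdeal h]; exact hfr)
    have hRm : R < m := lt_of_le_of_ne (show r ≤ IsLocalRing.maximalIdeal A from IsLocalRing.le_maximalIdeal hr.ne_top)
      fun h => hrm (congrArg PrimeSpectrum.asIdeal h)
    let e0 : Set.Icc P m := ⟨P, le_rfl, hPm⟩
    let e1 : Set.Icc P m := ⟨R, hPR.le, hRm.le⟩
    let e2 : Set.Icc P m := ⟨m, hPm, le_rfl⟩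
    let l : LTSeries (Set.Icc P m) := (((RelSeries.singleton _ e0).snoc e1 hPR).snoc e2 (by
      rw [RelSeries.last_snoc]; exact hRm))
    have h2 : (2 : WithBot ℕ∞) ≤ Order.krullDim (Set.Icc P m) := by
      exact_mod_cast Order.LTSeries.length_le_krullDim l
    rw [krullDim_Icc_eq hω hPm] at h2
    exact_mod_cast h2
  have hgap : ((dfn hω P - dfn hω Q).toNat : ℕ∞) ≤ p.height := by
    rw [← height_Ici_eq hω hQP]
    refine (Order.height_le_height_apply_of_strictMono (fun r : Set.Ici Q => r.1)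
      (Subtype.strictMono_coe _) _).trans ?_
    exact le_of_eq (PrimeSpectrum.height_eq_orderHeight P).symm
  have h1 := DualCxLib.dfn_le hω hQP
  have h2 := DualCxLib.dfn_le hω hPm
  have hk := HyperFEt.le_depth_of_not_mem A f hS p hfp
  rw [hP]
  generalize LocCoh.depth (Localization.AtPrime p) (Localization.AtPrime p) = D at hk ⊢
  have hk' : min (2 : ℕ∞) p.height ≤ D := by
    rw [← WithBot.coe_le_coe (α := ℕ∞), WithBot.coe_min]
    exact hk
  have hD : ∀ c : ℕ, (c : ℕ∞) ≤ D → 3 < c + (dfn hω m - dfn hω P).toNat →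
      (3 : WithBot ℕ∞) < (D : WithBot ℕ∞) + (((dfn hω m - dfn hω P).toNat : ℕ) : WithBot ℕ∞) := by
    intro c hc h
    refine lt_of_lt_of_le (b := (((c + (dfn hω m - dfn hω P).toNat : ℕ) : ℕ∞) : WithBot ℕ∞)) ?_ ?_
    · exact WithBot.coe_lt_coe.2 (Nat.cast_lt.2 h : ((3 : ℕ) : ℕ∞) < _)
    · rw [Nat.cast_add, WithBot.coe_add]
      exact add_le_add (WithBot.coe_le_coe.2 hc) le_rfl
  rcases le_or_gt (2 : ℕ∞) p.height with h2h | h2h
  · exact hD 2 (by rw [min_eq_left h2h] at hk'; exact_mod_cast hk') (by omega)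
  · rw [min_eq_right h2h.le] at hk'
    refine hD (dfn hω P - dfn hω Q).toNat (hgap.trans hk') ?_
    have : (dfn hω P - dfn hω Q).toNat ≤ 1 := by
      have := hgap.trans_lt h2h
      have h' : (dfn hω P - dfn hω Q).toNat < 2 := by exact_mod_cast this
      omega
    omega

theorem isAdicComplete_pow {A : Type u} [CommRing A] (f : A) [IsAdicComplete (Ideal.span {f}) A] (e : ℕ) :
    IsAdicComplete (Ideal.span {f ^ (e + 1)}) A := by
  have hpow : ∀ k, (Ideal.span {f ^ (e + 1)} ^ k • ⊤ : Submodule A A) = Ideal.span {f} ^ ((e + 1) * k) • ⊤ :=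
    fun k => by rw [pow_mul, Ideal.span_singleton_pow f (e + 1)]
  have hle : ∀ k, (Ideal.span {f ^ (e + 1)} ^ k • ⊤ : Submodule A A) ≤ Ideal.span {f} ^ k • ⊤ := fun k => by
    rw [hpow]
    exact Submodule.smul_mono_left (Ideal.pow_le_pow_right (Nat.le_mul_of_pos_left k e.succ_pos))
  have hH : IsHausdorff (Ideal.span {f ^ (e + 1)}) A := ⟨fun x hx =>
    IsHausdorff.haus (I := Ideal.span {f}) inferInstance x fun k => SModEq.mono (hle k) (hx k)⟩
  have hP : IsPrecomplete (Ideal.span {f ^ (e + 1)}) A := by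
    refine ⟨fun x hx => ?_⟩
    obtain ⟨L, hL⟩ := IsPrecomplete.prec (I := Ideal.span {f}) (M := A) inferInstance (f := x)
      (fun {a c} h => SModEq.mono (hle a) (hx h))
    refine ⟨L, fun k => (hx (Nat.le_mul_of_pos_left k e.succ_pos)).trans ?_⟩
    rw [hpow]
    exact hL _
  constructor

theorem depthCond_of_hyp (A : Type u) [CommRing A] [IsNoetherianRing A] [IsLocalRing A] (f : A)
    (hf : f ∈ IsLocalRing.maximalIdeal A) (hd : ∃ ω : Dual.D A, Dual.IsDualizing A ω)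
    (hc : ((LocCoh.HasSk 2 (Localization.Away f) (Localization.Away f) ∧
        ∀ p : Ideal A, p ∈ minimalPrimes A → f ∉ p → (4 : WithBot ℕ∞) ≤ ringKrullDim (A ⧸ p)) ∨
      (∀ p : Ideal A, ∀ _ : p.IsPrime, f ∉ p → (p ⊔ Ideal.span {f}).radical ≠ IsLocalRing.maximalIdeal A →
        (3 : WithBot ℕ∞) < (LocCoh.depth (Localization.AtPrime p) (Localization.AtPrime p) : WithBot ℕ∞) + ringKrullDim (A ⧸ p)))) :
    DepthCond f := fun p _ hfp hnb => by
  rcases hc with ⟨hS, hdim⟩ | hc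
  · exact depth_add_dim_gt A f hf hd hS hdim p hfp hnb
  · exact hc p inferInstance hfp fun h => hnb (bad_of_radical hfp h)

theorem bad_pow_iff {A : Type u} [CommRing A] [IsLocalRing A] {f : A} (e : ℕ) (p : Ideal A) [p.IsPrime] :
    Bad (f ^ (e + 1)) p ↔ Bad f p :=
  ⟨fun h => ⟨fun hf => h.1 (Ideal.pow_mem_of_mem _ hf _ e.succ_pos), fun r hr hpr hfr =>
      h.2 r hr hpr (Ideal.pow_mem_of_mem _ hfr _ e.succ_pos)⟩,
    fun h => ⟨fun hf => h.1 (Ideal.IsPrime.mem_of_pow_mem ‹_› _ hf), fun r hr hpr hfr =>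
      h.2 r hr hpr (hr.mem_of_pow_mem _ hfr)⟩⟩

variable {A : Type u} [CommRing A] [IsNoetherianRing A] [IsLocalRing A]

/-- The torsion to be removed: sections supported at the bad associated primes, or killed by the equation. -/
theorem exists_torsion (f : A) : ∃ (K : Ideal A) (n : ℕ),
    (∀ x : A, f * x ∈ K → x ∈ K) ∧
    (∀ p ∈ associatedPrimes A (A ⧸ K), ¬ Bad f p) ∧
    (∀ p : Ideal A, p.IsPrime → f ∉ p → ¬ Bad f p → ∀ x ∈ K, ∃ s ∉ p, s * x = 0) ∧
    (∀ p : Ideal A, p.IsPrime → f ∈ p → p ≠ IsLocalRing.maximalIdeal A → ∀ x ∈ K, ∃ s ∉ p, s * (f ^ n * x) = 0) := by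
  classical
  let m := IsLocalRing.maximalIdeal A
  let s := (associatedPrimes.finite A A).toFinset.filter fun P => Bad f P
  let J₁ : Ideal A := m ⊓ s.inf id
  let J : Ideal A := Ideal.span {f} * J₁
  obtain ⟨n, hn⟩ := S0804.exists_kill_torsionSub A J
  have hJ1 : ∀ p : Ideal A, p.IsPrime → J₁ ≤ p → p = m ∨ ∃ P, Bad f P ∧ P ≤ p := fun p hp h => by
    rcases hp.inf_le.1 h with h | h
    · exact Or.inl (le_antisymm (IsLocalRing.le_maximalIdeal hp.ne_top) h)
    · obtain ⟨P, hP, hPp⟩ := (Ideal.IsPrime.inf_le' hp).1 h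
      exact Or.inr ⟨P, (Finset.mem_filter.1 hP).2, hPp⟩
  refine ⟨DRing.torsionSub J A, n, fun x hx => ?_, fun p hp hbad => ?_, fun p hp hfp hnb x hx => ?_,
    fun p hp hfp hpm x hx => ?_⟩
  · obtain ⟨k, hk⟩ := hx
    refine ⟨k + 1, fun b hb => ?_⟩
    rw [pow_succ] at hb
    refine Submodule.mul_induction_on hb (fun c hc d hd => ?_)
      (fun p q hp hq => by rw [add_smul, hp, hq, add_zero])
    obtain ⟨d', rfl⟩ := Ideal.mem_span_singleton'.1 (Ideal.mul_le_left (show d ∈ Ideal.span {f} * J₁ from hd))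
    have := hk c hc
    simp only [smul_eq_mul] at this ⊢
    linear_combination d' * this
  · obtain ⟨hpA, hJp⟩ := S0804.associatedPrimes_quot_torsion A J p hp
    exact hJp (Ideal.mul_le_right.trans (inf_le_right.trans (Finset.inf_le (f := id)
      (Finset.mem_filter.2 ⟨(associatedPrimes.finite A A).mem_toFinset.2 hpA, hbad⟩))))
  · obtain ⟨k, hk⟩ := hx
    obtain ⟨a, ha, hap⟩ := SetLike.not_le_iff_exists.1 (fun h : J₁ ≤ p => by
      rcases hJ1 p hp h with h | ⟨P, hP, hPp⟩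
      · exact hnb ⟨hfp, fun r hr hpr _ => le_antisymm (IsLocalRing.le_maximalIdeal hr.ne_top) (show m ≤ r from h.ge.trans hpr)⟩
      · exact hnb ⟨hfp, fun r hr hpr => hP.2 r hr (hPp.trans hpr)⟩)
    exact ⟨(f * a) ^ k, fun h => (hp.mem_or_mem (hp.mem_of_pow_mem k h)).elim hfp hap,
      hk _ (Ideal.pow_mem_pow (Ideal.mul_mem_mul (Ideal.mem_span_singleton_self f) ha) k)⟩
  · obtain ⟨a, ha, hap⟩ := SetLike.not_le_iff_exists.1 (fun h : J₁ ≤ p => by
      rcases hJ1 p hp h with h | ⟨P, hP, hPp⟩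
      · exact hpm h
      · exact hpm (hP.2 p hp hPp hfp))
    refine ⟨a ^ n, fun h => hap (hp.mem_of_pow_mem n h), ?_⟩
    rw [← mul_assoc, ← mul_pow]
    have := congrArg Subtype.val (hn _ (Ideal.pow_mem_pow (Ideal.mul_mem_mul (Ideal.mem_span_singleton_self f) ha) n) ⟨x, hx⟩)
    rwa [mul_comm f a] at this

omit [IsNoetherianRing A] in
theorem bad_comap {K : Ideal A} [IsLocalRing (A ⧸ K)] {f : A} (P : Ideal (A ⧸ K)) [P.IsPrime]
    (h : Bad (Ideal.Quotient.mk K f) P) : Bad f (P.comap (Ideal.Quotient.mk K)) :=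
  ⟨h.1, fun r hr hPr hfr => by
    have hK : K ≤ r := fun x hx => hPr (show Ideal.Quotient.mk K x ∈ P by
      rw [Ideal.Quotient.eq_zero_iff_mem.2 hx]; exact P.zero_mem)
    haveI : (r.map (Ideal.Quotient.mk K)).IsPrime :=
      Ideal.map_isPrime_of_surjective Ideal.Quotient.mk_surjective (by rwa [Ideal.mk_ker])
    have h1 := h.2 (r.map (Ideal.Quotient.mk K)) inferInstance (fun y hy => by
      obtain ⟨x, rfl⟩ := Ideal.Quotient.mk_surjective y
      exact Ideal.mem_map_of_mem _ (hPr hy)) (Ideal.mem_map_of_mem _ hfr)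
    refine le_antisymm (IsLocalRing.le_maximalIdeal hr.ne_top) fun x hx => ?_
    haveI : IsLocalHom (Ideal.Quotient.mk K) := IsLocalHom.of_surjective _ Ideal.Quotient.mk_surjective
    have hx' : Ideal.Quotient.mk K x ∈ r.map (Ideal.Quotient.mk K) := by
      rw [h1]; exact map_nonunit _ x hx
    obtain ⟨y, hy, hxy⟩ := (Ideal.mem_map_iff_of_surjective _ Ideal.Quotient.mk_surjective).1 hx'
    simpa using r.sub_mem hy (hK (Ideal.Quotient.eq.1 hxy))⟩

/-- The depth condition passes to the quotient by the torsion. -/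
theorem depthCond_quot {K : Ideal A} [IsLocalRing (A ⧸ K)] {f : A}
    (hK : ∀ p : Ideal A, p.IsPrime → f ∉ p → ¬ Bad f p → ∀ x ∈ K, ∃ s ∉ p, s * x = 0) (h : DepthCond f) :
    DepthCond (Ideal.Quotient.mk K f) := fun P hP hfP hnb => by
  let p := P.comap (Ideal.Quotient.mk K)
  have hKp : K ≤ p := fun x hx => show Ideal.Quotient.mk K x ∈ P by
    rw [Ideal.Quotient.eq_zero_iff_mem.2 hx]; exact P.zero_mem
  have hnb' : ¬ Bad f p := fun hb => hnb ⟨hfP, fun r hr hPr hfr => by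
    have h1 := hb.2 (r.comap (Ideal.Quotient.mk K)) inferInstance (Ideal.comap_mono hPr) hfr
    rw [← Ideal.map_comap_of_surjective _ Ideal.Quotient.mk_surjective r, h1]
    exact IsLocalRing.map_maximalIdeal_of_surjective _ Ideal.Quotient.mk_surjective⟩
  let φ := Localization.localRingHom p P (Ideal.Quotient.mk K) rfl
  have hφ : Function.Bijective φ := by
    refine ⟨(injective_iff_map_eq_zero _).2 fun z hz => ?_,
      RingHom.surjective_localRingHom_of_surjective _ Ideal.Quotient.mk_surjective P⟩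
    obtain ⟨⟨x, s⟩, hxs⟩ := IsLocalization.surj p.primeCompl z
    have h0 : algebraMap (A ⧸ K) (Localization.AtPrime P) (Ideal.Quotient.mk K x) = 0 := by
      rw [← Localization.localRingHom_to_map p P (Ideal.Quotient.mk K) rfl, ← hxs, map_mul, hz, zero_mul]
    obtain ⟨⟨t, ht⟩, ht0⟩ := (IsLocalization.map_eq_zero_iff P.primeCompl _ _).1 h0
    obtain ⟨c, rfl⟩ := Ideal.Quotient.mk_surjective t
    change Ideal.Quotient.mk K c * Ideal.Quotient.mk K x = 0 at ht0
    rw [← map_mul, Ideal.Quotient.eq_zero_iff_mem] at ht0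
    obtain ⟨u, hu, hu0⟩ := hK p inferInstance hfP hnb' _ ht0
    have h1 : algebraMap A (Localization.AtPrime p) x = 0 :=
      (IsLocalization.map_eq_zero_iff p.primeCompl _ _).2 ⟨⟨u * c, fun h' =>
        ((Ideal.IsPrime.mem_or_mem inferInstance h').elim hu ht)⟩, by rw [← hu0, mul_assoc]⟩
    rw [← hxs] at h1
    exact (IsLocalization.map_units (Localization.AtPrime p) s).mul_left_eq_zero.1 h1
  rw [FlatDepth.depth_eq_of_ringEquiv (RingEquiv.ofBijective φ hφ)]
  have hmap : P = p.map (Ideal.Quotient.mk K) := (Ideal.map_comap_of_surjective _ Ideal.Quotient.mk_surjective P).symm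
  rw [ringKrullDim_eq_of_ringEquiv ((Ideal.quotEquivOfEq hmap).trans (DoubleQuot.quotQuotEquivQuotOfLE hKp))]
  exact h p inferInstance hfP hnb'

omit [IsLocalRing A] in
theorem mem_associatedPrimes_quot {K : Ideal A} (P : Ideal (A ⧸ K)) (hP : P ∈ associatedPrimes (A ⧸ K) (A ⧸ K)) :
    P.comap (Ideal.Quotient.mk K) ∈ associatedPrimes A (A ⧸ K) := by
  obtain ⟨hPp, x, hx⟩ := isAssociatedPrime_iff.1 hP
  haveI := hPp
  refine isAssociatedPrime_iff.2 ⟨inferInstance, x, ?_⟩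
  ext a
  rw [Ideal.mem_comap, hx, Submodule.mem_colon_singleton, Submodule.mem_colon_singleton, Submodule.mem_bot,
    Submodule.mem_bot]
  rfl

theorem exists_algebra_quot (hd : ∃ ω : Dual.D A, Dual.IsDualizing A ω) {f : A}
    [IsAdicComplete (Ideal.span {f}) A] (hc : DepthCond f) (K : Ideal A) (hreg : ∀ x : A, f * x ∈ K → x ∈ K)
    (hass : ∀ p ∈ associatedPrimes A (A ⧸ K), ¬ Bad f p)
    (hK : ∀ p : Ideal A, p.IsPrime → f ∉ p → ¬ Bad f p → ∀ x ∈ K, ∃ s ∉ p, s * x = 0) (e : ℕ)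
    {ι : Type u} [Finite ι] (g : ι → A) (hg : Ideal.span (Set.range g) = IsLocalRing.maximalIdeal A)
    (L' : Levels (Ideal.Quotient.mk K (f ^ (e + 1))) (qK K ⁻¹ᵁ FEt.puncturedSpec A)) :
    ∃ (B' : Type u) (_ : CommRing B') (_ : Algebra (A ⧸ K) B') (_ : Module.Finite (A ⧸ K) B')
      (π : B' →ₐ[A ⧸ K] Gam (L'.q 0)),
      IsSMulRegular B' (Ideal.Quotient.mk K (f ^ (e + 1))) ∧
      (∀ x, π x = 0 → ∃ y, Ideal.Quotient.mk K (f ^ (e + 1)) • y = x) ∧
      ∀ j y, ∃ k x, π x = Ideal.Quotient.mk K (g j) ^ k • y := by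
  by_cases hK1 : K = ⊤
  · haveI : Subsingleton (A ⧸ K) := Ideal.Quotient.subsingleton_iff.2 hK1
    haveI : Subsingleton (Gam (L'.q 0)) := Module.subsingleton (A ⧸ K) _
    exact ⟨A ⧸ K, inferInstance, inferInstance, inferInstance, Algebra.ofId _ _, fun x y _ => Subsingleton.elim x y,
      fun x _ => ⟨x, Subsingleton.elim _ _⟩, fun j y => ⟨0, 0, Subsingleton.elim _ _⟩⟩
  haveI : Nontrivial (A ⧸ K) := Ideal.Quotient.nontrivial_iff.2 hK1
  haveI : IsLocalRing (A ⧸ K) := IsLocalRing.of_surjective' (Ideal.Quotient.mk K) Ideal.Quotient.mk_surjective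
  have hgm : Ideal.span (Set.range fun j => Ideal.Quotient.mk K (g j)) = IsLocalRing.maximalIdeal (A ⧸ K) := by
    rw [show (Set.range fun j => Ideal.Quotient.mk K (g j)) = Ideal.Quotient.mk K '' Set.range g from Set.range_comp' _ _,
      ← Ideal.map_span, hg]
    exact IsLocalRing.map_maximalIdeal_of_surjective _ Ideal.Quotient.mk_surjective
  have hU : qK K ⁻¹ᵁ FEt.puncturedSpec A = ⨆ j, PrimeSpectrum.basicOpen (Ideal.Quotient.mk K (g j)) := by
    rw [HyperFEt.puncturedSpec_eq A g hg, Scheme.Hom.preimage_iSup]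
    rfl
  have hnz : Ideal.Quotient.mk K f ∈ nonZeroDivisors (A ⧸ K) := by
    rw [mem_nonZeroDivisors_iff_right]
    intro y hy
    obtain ⟨x, rfl⟩ := Ideal.Quotient.mk_surjective y
    rw [← map_mul, Ideal.Quotient.eq_zero_iff_mem, mul_comm] at hy
    exact Ideal.Quotient.eq_zero_iff_mem.2 (hreg x hy)
  have hnzF : Ideal.Quotient.mk K (f ^ (e + 1)) ∈ nonZeroDivisors (A ⧸ K) := by rw [map_pow]; exact pow_mem hnz _
  obtain ⟨ω, hω⟩ := hd
  have hd' := Groth.Agent.S0377.result A ω hω (A ⧸ K)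
  have hc' : DepthCond (Ideal.Quotient.mk K (f ^ (e + 1))) := fun P hP hfP hnb => by
    rw [map_pow] at hfP hnb
    exact depthCond_quot hK hc P hP (fun h => hfP (Ideal.pow_mem_of_mem _ h _ e.succ_pos))
      (fun h => hnb ((bad_pow_iff e P).2 h))
  have hass' : ∀ P ∈ associatedPrimes (A ⧸ K) (A ⧸ K), ¬ Bad (Ideal.Quotient.mk K (f ^ (e + 1))) P := fun P hP hb => by
    haveI : P.IsPrime := hP.isPrime
    rw [map_pow] at hb
    exact hass _ (mem_associatedPrimes_quot P hP) (bad_comap P ((bad_pow_iff e P).1 hb))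
  obtain ⟨J, t, hsmall, ⟨n, hkill⟩, hkill1⟩ := exists_annihilators hd' _ hnzF hass' hc'
  haveI : IsAdicComplete (Ideal.span {f ^ (e + 1)}) A :=
    isAdicComplete_pow f e
  haveI : IsAdicComplete (Ideal.span {Ideal.Quotient.mk K (f ^ (e + 1))}) (A ⧸ K) := by
    have h1 := FiniteCompleteLib.isAdicComplete_of_finite (Ideal.span {f ^ (e + 1)}) (A ⧸ K)
    have h2 := (IsAdicComplete.map_algebraMap_iff (S := A ⧸ K) (Ideal.span {f ^ (e + 1)}) (A ⧸ K)).2 h1
    rwa [Ideal.map_span, Set.image_singleton, Ideal.Quotient.algebraMap_eq] at h2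
  obtain ⟨B', i1, i2, i3, π, h1, h2, h3⟩ :=
    exists_algebra _ hU L' hgm hnzF ⟨J, t, n, hsmall, hkill, hkill1⟩
  exact ⟨B', i1, i2, i3, π, h1, h2, h3⟩

/-- A cover of the punctured hypersurface section extends to a neighbourhood. -/
theorem exists_neighbourhood_hyp (f : A) (hf : f ∈ IsLocalRing.maximalIdeal A)
    (hd : ∃ ω : Dual.D A, Dual.IsDualizing A ω) [IsAdicComplete (Ideal.span {f}) A] (hc : DepthCond f)
    (I : Ideal A) (hI : I = Ideal.span {f ^ (0 + 1)})
    (V₀ : FEt.Cat (pullback (FEt.puncturedSpec A).ι (Spec.map (CommRingCat.ofHom (Ideal.Quotient.mk I))))) :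
    ∃ (U' : (Spec (CommRingCat.of A)).Opens) (_ : U' ≤ FEt.puncturedSpec A)
      (u' : pullback (FEt.puncturedSpec A).ι (Spec.map (CommRingCat.ofHom (Ideal.Quotient.mk I))) ⟶ (U' : Scheme.{u}))
      (_ : u' ≫ U'.ι = pullback.fst (FEt.puncturedSpec A).ι (Spec.map (CommRingCat.ofHom (Ideal.Quotient.mk I))) ≫
        (FEt.puncturedSpec A).ι)
      (V' : FEt.Cat (U' : Scheme.{u})), Nonempty ((FEt.restrict u').obj V' ≅ V₀) := by
  subst hI
  obtain ⟨K, n, hreg, hass, hK, hKn⟩ := exists_torsion f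
  obtain ⟨ι, _, g, hg⟩ := HyperFEt.exists_gens (A := A)
  let U := FEt.puncturedSpec A
  obtain ⟨U', hU'le, u', hu', V', ⟨iso⟩⟩ := exists_neighbourhood (f := f ^ (n + 1)) g
    (HyperFEt.puncturedSpec_eq A g hg) K
    (fun p hp hfp ⟨j, hj⟩ x hx => by
      obtain ⟨s, hs, hsx⟩ := hKn p hp (hp.mem_of_pow_mem _ hfp) (fun h => hj (by
        rw [h, ← hg]; exact Ideal.subset_span (Set.mem_range_self j))) x hx
      exact ⟨s, hs, by rw [pow_succ', mul_assoc f, ← mul_assoc s, mul_comm s f, mul_assoc f s, hsx, mul_zero]⟩)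
    (exists_algebra_quot hd hc K hreg hass hK n g hg) (Ideal.span {f ^ (n + 1)}) (by rw [zero_add, pow_one])
    (coverTower f U V₀ n)
  obtain ⟨c, hc', ⟨ic⟩⟩ : ∃ c : Un f U 0 ⟶ Un f U n, c ≫ pullback.fst _ _ = pullback.fst _ _ ∧
      Nonempty ((FEt.restrict c).obj (coverTower f U V₀ n) ≅ V₀) := by
    clear iso V' hu' u' hU'le U' hKn
    induction n with
    | zero => exact ⟨𝟙 _, Category.id_comp _, ⟨MorphismProperty.Over.isoMk (asIso (pullback.fst V₀.hom (𝟙 (Un f U 0)))) (by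
        exact pullback.condition.trans (Category.comp_id _))⟩⟩
    | succ k ih =>
      obtain ⟨c, hc, ⟨i⟩⟩ := ih
      exact ⟨c ≫ cn f U k, by rw [Category.assoc, cn_fst, hc],
        ⟨(MorphismProperty.Over.pullbackComp c (cn f U k) _ rfl).app _ ≪≫
          (FEt.restrict c).mapIso (coverTowerIso f U V₀ k) ≪≫ i⟩⟩
  refine ⟨U', hU'le, c ≫ u', by rw [Category.assoc, hu', ← Category.assoc, hc'], V', ⟨?_⟩⟩
  exact (MorphismProperty.Over.pullbackComp c u' _ rfl).app _ ≪≫ (FEt.restrict c).mapIso iso ≪≫ ic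

end Groth.Agent.HyperGen
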