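import Groth.Agent.HyperAlg.Closed
import Groth.Agent.LocCohLib.Artinian

/-!
Towers of sections whose obstruction groups need not be finite: finiteness of the limit and lifting.
-/

set_option autoImplicit false
set_option linter.style.haveILetI false
set_option backward.isDefEq.respectTransparency.types false
set_option linter.unusedSectionVars false
set_option maxHeartbeats 1000000

universe u

open CategoryTheory CategoryTheory.Limits AlgebraicGeometry TopologicalSpace Opposite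

noncomputable section

namespace Groth.Agent.HyperGen

open PuncSecLib

variable {A : Type u} [CommRing A] [IsNoetherianRing A] {𝔞 : Ideal A} {f : A}
  {G : ℕ → (LocCoh.puncturedOpen A 𝔞 : Scheme.{u}).Modules} (T : Tower 𝔞 f G)

/-- Raising from level `m` to level `n`. -/
def up {m n : ℕ} (h : m ≤ n) : Γp 𝔞 (G m) →ₗ[A] Γp 𝔞 (G n) :=
  Nat.leRec (motive := fun n _ => Γp 𝔞 (G m) →ₗ[A] Γp 𝔞 (G n)) LinearMap.id
    (fun k _ φ => (T.ψ k).comp φ) h

theorem up_self (m : ℕ) (x : Γp 𝔞 (G m)) : up T (le_refl m) x = x := by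
  show Nat.leRec (motive := fun n _ => Γp 𝔞 (G m) →ₗ[A] Γp 𝔞 (G n)) LinearMap.id
    (fun k _ φ => (T.ψ k).comp φ) (le_refl m) x = x
  rw [Nat.leRec_self]; rfl

theorem up_succ {m n : ℕ} (h : m ≤ n) (x : Γp 𝔞 (G m)) :
    up T (h.trans (Nat.le_succ n)) x = T.ψ n (up T h x) := by
  show Nat.leRec (motive := fun n _ => Γp 𝔞 (G m) →ₗ[A] Γp 𝔞 (G n)) LinearMap.id
    (fun k _ φ => (T.ψ k).comp φ) (h.trans (Nat.le_succ n)) x = _
  rw [Nat.leRec_succ _ _ h]
  rfl

theorem up_trans {k m n : ℕ} (h₁ : k ≤ m) (h₂ : m ≤ n) (x : Γp 𝔞 (G k)) :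
    up T (h₁.trans h₂) x = up T h₂ (up T h₁ x) := by
  induction n, h₂ using Nat.le_induction with
  | base => rw [up_self]
  | succ n h₂ ih => rw [up_succ T (h₁.trans h₂), up_succ T h₂, ih]

theorem up_injective {m n : ℕ} (h : m ≤ n) : Function.Injective (up T h) := by
  induction n, h using Nat.le_induction with
  | base => intro x y hxy; rwa [up_self, up_self] at hxy
  | succ n h ih =>
    intro x y hxy
    rw [up_succ T h, up_succ T h] at hxy
    exact ih (T.ψ_injective n hxy)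

theorem P_trans {k m n : ℕ} (h₁ : k ≤ m) (h₂ : m ≤ n) (x : Γp 𝔞 (G n)) :
    T.P (h₁.trans h₂) x = T.P h₁ (T.P h₂ x) := by
  induction n, h₂ using Nat.le_induction with
  | base => rw [T.P_self]
  | succ n h₂ ih => rw [T.P_succ (h₁.trans h₂), T.P_succ h₂, ih]

theorem up_P {m n : ℕ} (h : m ≤ n) (x : Γp 𝔞 (G n)) : up T h (T.P h x) = f ^ (n - m) • x := by
  induction n, h using Nat.le_induction with
  | base => rw [T.P_self, up_self, Nat.sub_self, pow_zero, one_smul]
  | succ n h ih =>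
    rw [T.P_succ h, up_succ T h, ih, map_smul, T.ψ_t, smul_smul, ← pow_succ, Nat.succ_sub h]

/-- Projecting and raising commute. -/
theorem P_up_shift {m m' : ℕ} (hm : m ≤ m') : ∀ {c c' : ℕ} (hc : c ≤ c') (hmc : m ≤ c) (hmc' : m' ≤ c'),
    c' + m = c + m' → ∀ x : Γp 𝔞 (G c), T.P hmc' (up T hc x) = up T hm (T.P hmc x) := by
  induction m', hm using Nat.le_induction with
  | base =>
    intro c c' hc hmc hmc' h x
    obtain rfl : c' = c := by omega
    rw [up_self, up_self]
  | succ k hk ih =>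
    intro c c' hc hmc hmc' h x
    obtain ⟨c'', rfl⟩ : ∃ c'', c' = c'' + 1 := ⟨c' - 1, by omega⟩
    have hc'' : c ≤ c'' := by omega
    have hk' : k ≤ c'' := by omega
    rw [up_succ T hc'', up_succ T hk, ← ih hc'' hmc hk' (by omega) x]
    exact T.P_ψ hk' _

theorem P_up_eq_zero : ∀ {m n d : ℕ}, n = m + d + 1 → ∀ (h : m ≤ n) (hd : d ≤ n) (z : Γp 𝔞 (G d)),
    T.P h (up T hd z) = 0 := by
  intro m
  induction m with
  | zero =>
    intro n d hn h hd z
    obtain rfl : n = d + 1 := by omega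
    rw [up_succ T (le_refl d), up_self, ← T.p₀_eq]
    exact T.p₀_ψ d z
  | succ m ih =>
    intro n d hn h hd z
    obtain rfl : n = (m + d + 1) + 1 := by omega
    rw [up_succ T (show d ≤ m + d + 1 by omega), T.P_ψ (show m ≤ m + d + 1 by omega), ih rfl, map_zero]

theorem exists_up_of_P_eq_zero : ∀ {m n d : ℕ}, n = m + d + 1 → ∀ (h : m ≤ n) (hd : d ≤ n) (y : Γp 𝔞 (G n)),
    T.P h y = 0 → ∃ z, up T hd z = y := by
  intro m
  induction m with
  | zero =>
    intro n d hn h hd y hy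
    obtain rfl : n = d + 1 := by omega
    obtain ⟨z, rfl⟩ := T.exists_eq_ψ d y (by rw [T.p₀_eq]; exact hy)
    exact ⟨z, by rw [up_succ T (le_refl d), up_self]⟩
  | succ m ih =>
    intro n d hn h hd y hy
    obtain rfl : n = (m + d + 1) + 1 := by omega
    have h0 : T.p₀ (m + d + 1 + 1) y = 0 := by
      rw [T.p₀_eq, P_trans T (Nat.zero_le (m + 1)) h, hy, map_zero]
    obtain ⟨z, rfl⟩ := T.exists_eq_ψ (m + d + 1) y h0
    rw [T.P_ψ (show m ≤ m + d + 1 by omega), map_eq_zero_iff _ (T.ψ_injective m)] at hy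
    obtain ⟨z', rfl⟩ := ih rfl _ (show d ≤ m + d + 1 by omega) z hy
    exact ⟨z', up_succ T _ z'⟩

theorem exists_P_lift {n M : ℕ} (h : n ≤ M) (y : Γp 𝔞 (G n)) {b : A} (hb : b ∈ 𝔞) :
    ∃ k x, T.P h x = b ^ k • y := by
  induction M, h using Nat.le_induction with
  | base => exact ⟨0, y, by rw [T.P_self, pow_zero, one_smul]⟩
  | succ M h ih =>
    obtain ⟨k, x, hx⟩ := ih
    obtain ⟨k', hk'⟩ := T.cok M x
    obtain ⟨x', hx'⟩ := hk' _ (Ideal.pow_mem_pow hb k')
    exact ⟨k' + k, x', by rw [T.P_succ h, hx', map_smul, hx, smul_smul, pow_add]⟩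

theorem finite_lim_of_range [IsAdicComplete (Ideal.span {f}) A] (h : Module.Finite A (LinearMap.range (T.pr 0))) :
    Module.Finite A T.Lim := by
  classical
  obtain ⟨r, g, hg⟩ := Module.Finite.exists_fin' A (LinearMap.range (T.pr 0))
  choose w hw using fun i : Fin r => (g (Pi.single i 1)).2
  let φ : (Fin r → A) →ₗ[A] T.Lim := Fintype.linearCombination A w
  haveI := FiniteCompleteLib.isAdicComplete_of_finite (Ideal.span {f}) (Fin r → A)
  haveI := T.isHausdorff_lim
  refine Module.Finite.of_surjective φ (surjective_of_mkQ_comp_surjective (I := Ideal.span {f}) fun q => ?_)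
  obtain ⟨y, rfl⟩ := Submodule.Quotient.mk_surjective _ q
  obtain ⟨c, hc⟩ := hg ⟨T.pr 0 y, LinearMap.mem_range_self _ y⟩
  refine ⟨c, (Submodule.Quotient.eq _).2 ?_⟩
  have h0' : T.pr 0 (φ c - y) = 0 := by
    rw [map_sub, sub_eq_zero, Fintype.linearCombination_apply, map_sum]
    refine Eq.trans ?_ ((congrArg Subtype.val hc).trans rfl)
    conv_rhs => rw [pi_eq_sum_univ' c, map_sum, AddSubmonoidClass.coe_finsetSum]
    refine Finset.sum_congr rfl fun i _ => ?_
    rw [map_smul, map_smul, hw i]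
    rfl
  obtain ⟨z, hz, -⟩ := T.exists_eq_smul (φ c - y) h0'
  rw [hz]
  exact Submodule.smul_mem_smul (Ideal.mem_span_singleton_self f) Submodule.mem_top

theorem chain_stable (𝔪 : Ideal A) [𝔪.IsMaximal] (M : Type u) [AddCommGroup M] [Module A M] [IsArtinian A M]
    (R : ℕ → Submodule A M) (hR : Monotone R) (N t : ℕ)
    (h : ∀ n, N ≤ n → ∀ z ∈ R n, ∀ b ∈ 𝔪 ^ t, b • z ∈ R N) : ∃ c, ∀ n, c ≤ n → R n ≤ R c := by
  classical
  let W : Submodule A (M ⧸ R N) := ⨆ n, (R n).map (R N).mkQ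
  have hW : Module.Finite A W := LocCohLib.finite_of_pow_annihilates 𝔪 t W fun b hb ⟨w, hw⟩ => Subtype.ext (by
    show b • w = 0
    have hle : W ≤ LinearMap.ker (LinearMap.lsmul A (M ⧸ R N) b) := iSup_le fun n => by
      rintro _ ⟨z, hz, rfl⟩
      rw [LinearMap.mem_ker, LinearMap.lsmul_apply, Submodule.mkQ_apply, ← Submodule.Quotient.mk_smul]
      exact (Submodule.Quotient.mk_eq_zero _).2 (h _ (le_max_right n N) z (hR (le_max_left n N) hz) b hb)
    exact hle hw)
  obtain ⟨s, hs⟩ := Module.Finite.iff_fg.1 hW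
  have hdir : Directed (· ≤ ·) fun n => (R n).map (R N).mkQ :=
    (show Monotone fun n => (R n).map (R N).mkQ from fun a b hab => Submodule.map_mono (hR hab)).directed_le
  have hmem : ∀ v : {v // v ∈ s}, ∃ n, v.1 ∈ (R n).map (R N).mkQ := fun v =>
    (Submodule.mem_iSup_of_directed _ hdir).1 (hs.le (Submodule.subset_span v.2))
  choose k hk using hmem
  refine ⟨max N (Finset.univ.sup k), fun n _ w hw => ?_⟩
  have h1 : Submodule.map (R N).mkQ (R n) ≤ (R (max N (Finset.univ.sup k))).map (R N).mkQ := by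
    refine (le_iSup (fun n => (R n).map (R N).mkQ) n).trans (hs.ge.trans (Submodule.span_le.2 ?_))
    intro v hv
    exact Submodule.map_mono (hR ((Finset.le_sup (f := k) (Finset.mem_univ ⟨v, hv⟩)).trans (le_max_right _ _)))
      (hk ⟨v, hv⟩)
  obtain ⟨v, hv, hvw⟩ := h1 ⟨w, hw, rfl⟩
  have h2 : w - v ∈ R N := by
    rw [← Submodule.Quotient.mk_eq_zero, Submodule.Quotient.mk_sub]
    exact sub_eq_zero.2 hvw.symm
  have h3 := add_mem (hR (le_max_left N (Finset.univ.sup k)) h2) hv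
  rwa [sub_add_cancel] at h3

section Obs

variable {E : Type u} [AddCommGroup E] [Module A E] [Module.Injective A E] (ι : Γp 𝔞 (G 0) →ₗ[A] E)

theorem d_up {m n : ℕ} (h : m ≤ n) (z : Γp 𝔞 (G m)) : T.d ι n (up T h z) = T.d ι m z := by
  induction n, h using Nat.le_induction with
  | base => rw [up_self]
  | succ n h ih => rw [up_succ T h, T.d_ψ, ih]

theorem d_t (n : ℕ) (x : Γp 𝔞 (G (n + 1))) : T.d ι n (T.t n x) = 0 :=
  (Submodule.Quotient.mk_eq_zero _).2 (by
    rw [T.c_t, Tower.toC_apply]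
    exact LinearMap.mem_range_self _ _)

theorem range_d_mono : Monotone fun n => LinearMap.range (T.d ι n) := monotone_nat_of_le_succ fun n => by
  rintro _ ⟨z, rfl⟩
  exact ⟨T.ψ n z, T.d_ψ ι n z⟩

/-- Lifting through a tower whose obstructions stabilise. -/
theorem cokTors_pr_of_stable (hι : Function.Injective ι)
    (hst : ∃ c, ∀ n, c ≤ n → LinearMap.range (T.d ι n) ≤ LinearMap.range (T.d ι c)) (n : ℕ) :
    CokTors 𝔞 (T.pr n) := by
  obtain ⟨c, hc⟩ := hst
  refine cokTors_of_loc fun z p hp => ?_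
  obtain ⟨a, ha, hap⟩ := Set.not_subset.1 (fun h => hp h)
  have hk : ∀ k, ∃ (s : A) (y : Γp 𝔞 (G (n + k))), s ∉ p.asIdeal ∧ T.P (Nat.le_add_right n k) y = s • z := by
    intro k
    induction k with
    | zero => exact ⟨1, z, fun h => p.2.ne_top ((Ideal.eq_top_iff_one _).2 h), by rw [one_smul]; exact T.P_self n z⟩
    | succ k ih =>
      obtain ⟨s, y, hs, hy⟩ := ih
      obtain ⟨t, ht⟩ := cokTors_υ (T.c ι (n + k) y)
      obtain ⟨x, hx⟩ := T.exists_lift ι hι (n + k) (a ^ t • y) (by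
        refine (Submodule.Quotient.mk_eq_zero _).2 ?_
        rw [map_smul]
        exact ht _ (Ideal.pow_mem_pow ha t))
      refine ⟨a ^ t * s, x, fun h => (p.2.mem_or_mem h).elim (fun h' => hap (p.2.mem_of_pow_mem _ h')) hs, ?_⟩
      exact (T.P_succ (Nat.le_add_right n k) x).trans (by rw [hx, map_smul, hy, mul_smul])
  obtain ⟨s, y, hs, hy⟩ := hk (c + 1)
  obtain ⟨x, hx⟩ := T.exists_mem_lim (T.d ι) (c := c) hc (T.d_ψ ι) (T.exists_lift ι hι) n y
  exact ⟨s, hs, x, hx.trans hy⟩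

/-- An ascending chain of obstruction groups which is bounded up to a power of the maximal ideal is stationary. -/
theorem stable_of_bound [h𝔞 : 𝔞.IsMaximal] (hArt : IsArtinian A (Obs 𝔞 (E ⧸ LinearMap.range ι))) (N t : ℕ)
    (h : ∀ n, N ≤ n → ∀ y, ∀ b ∈ 𝔞 ^ t, b • T.d ι n y ∈ LinearMap.range (T.d ι N)) :
    ∃ c, ∀ n, c ≤ n → LinearMap.range (T.d ι n) ≤ LinearMap.range (T.d ι c) :=
  chain_stable 𝔞 (Obs 𝔞 (E ⧸ LinearMap.range ι)) (fun n => LinearMap.range (T.d ι n)) (range_d_mono T ι) N t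
    fun n hn z ⟨y, hy⟩ b hb => hy ▸ h n hn y b hb

end Obs

section Bound

variable {J : Type u} [Finite J] (g : J → A) {G' : ℕ → (LocCoh.puncturedOpen A (Ideal.span (Set.range g)) : Scheme.{u}).Modules}
  (T' : Tower (Ideal.span (Set.range g)) f G')

/-- Solvability of lifting problems between level `2N` and level `N` bounds all obstructions by those of level `N`. -/
theorem smul_d_mem (hcl : ∀ n, HyperAlg.IsClosedMod g (Γp (Ideal.span (Set.range g)) (G' n)))
    {E : Type u} [AddCommGroup E] [Module A E] [Module.Injective A E]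
    (ι : Γp (Ideal.span (Set.range g)) (G' 0) →ₗ[A] E) (N : ℕ) (hN : 1 ≤ N) (a : A)
    (hlift : ∀ (M : ℕ) (h : N + N ≤ M) (k : ℕ) (x : J → Γp (Ideal.span (Set.range g)) (G' M))
      (e : J → J → Γp (Ideal.span (Set.range g)) (G' (N + N))),
      (∀ i j, up T' h (e i j) = g j ^ k • x i - g i ^ k • x j) →
      ∃ (l : ℕ) (w : J → Γp (Ideal.span (Set.range g)) (G' N)), ∀ i j,
        (g i * g j) ^ l • a • f ^ N • T'.P (Nat.le_add_right N N) (e i j) =
          g j ^ (k + l) • w i - g i ^ (k + l) • w j)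
    (n : ℕ) (hn : N ≤ n) (y : Γp (Ideal.span (Set.range g)) (G' n)) :
    a • T'.d ι n y ∈ LinearMap.range (T'.d ι N) := by
  classical
  haveI := Fintype.ofFinite J
  have hgm : ∀ j, g j ∈ Ideal.span (Set.range g) := fun j => Ideal.subset_span (Set.mem_range_self j)
  let M := n + (N + N) + 1
  have hnM : n ≤ M := by omega
  choose k₀ x₀ hx₀ using fun i => exists_P_lift T' hnM y (hgm i)
  let k := Finset.univ.sup k₀
  obtain ⟨x, hx⟩ : ∃ x : J → Γp (Ideal.span (Set.range g)) (G' M), ∀ i, T'.P hnM (x i) = g i ^ k • y :=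
    ⟨fun i => g i ^ (k - k₀ i) • x₀ i, fun i => by
      rw [map_smul, hx₀, smul_smul, ← pow_add, Nat.sub_add_cancel (Finset.le_sup (Finset.mem_univ i))]⟩
  have h2M : N + N ≤ M := by omega
  choose e he using fun i j => exists_up_of_P_eq_zero T' (show M = n + (N + N) + 1 from rfl) hnM h2M
    (g j ^ k • x i - g i ^ k • x j) (by rw [map_sub, map_smul, map_smul, hx, hx, smul_comm, sub_self])
  obtain ⟨l, w, hw⟩ := hlift M h2M k x e he
  have hM1 : n + 1 ≤ M := by omega
  have hN1 : N ≤ n + 1 := by omega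
  let Q := T'.P hM1
  have hD : ∀ i j, up T' hN1 (f ^ N • T'.P (Nat.le_add_right N N) (e i j)) = g j ^ k • Q (x i) - g i ^ k • Q (x j) :=
    fun i j => by
    rw [← map_smul Q, ← map_smul Q, ← map_sub Q, ← he i j,
      P_up_shift T' (Nat.zero_le (n + 1)) h2M (Nat.zero_le _) hM1 (by omega),
      show f ^ N • T'.P (Nat.le_add_right N N) (e i j) =
        up T' (Nat.zero_le N) (T'.P (Nat.zero_le N) (T'.P (Nat.le_add_right N N) (e i j))) by
          rw [up_P, Nat.sub_zero],
      ← P_trans T', ← up_trans T']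
  let X : J → Γp (Ideal.span (Set.range g)) (G' (n + 1)) := fun i => a • g i ^ l • Q (x i) - up T' hN1 (w i)
  obtain ⟨X₀, hX₀⟩ := (hcl (n + 1)).glue (k + l) X fun i j => by
    rw [← sub_eq_zero]
    have h1 := congrArg (up T' hN1) (hw i j)
    rw [map_smul, map_smul, hD, map_sub, map_smul, map_smul] at h1
    calc g j ^ (k + l) • X i - g i ^ (k + l) • X j
        = (g i * g j) ^ l • a • (g j ^ k • Q (x i) - g i ^ k • Q (x j)) -
          (g j ^ (k + l) • up T' hN1 (w i) - g i ^ (k + l) • up T' hN1 (w j)) := by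
            simp only [X, mul_pow, pow_add, smul_sub, smul_smul]
            module
      _ = 0 := by rw [h1, sub_self]
  have hnN : n - N ≤ n := Nat.sub_le n N
  have hN' : N - 1 ≤ n := by omega
  obtain ⟨z, hz⟩ := exists_up_of_P_eq_zero T' (show n = (n - N) + (N - 1) + 1 by omega) hnN hN'
    (a • y - T'.t n X₀) ((hcl (n - N)).sep _ fun i => ⟨k + l, by
      have h1 : g i ^ (k + l) • T'.t n X₀ = g i ^ (k + l) • a • y - T'.t n (up T' hN1 (w i)) := by
        rw [← map_smul, hX₀ i, map_sub, map_smul, map_smul]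
        congr 1
        have h2 : T'.t n (Q (x i)) = g i ^ k • y := (T'.t_P hM1 (x i)).trans (hx i)
        rw [h2, pow_add, smul_smul, smul_smul, smul_smul]
        congr 1
        ring
      have h3 : T'.t n (up T' hN1 (w i)) = up T' hN' (T'.P (Nat.sub_le N 1) (w i)) := by
        rw [← P_up_shift T' hN' hN1 (Nat.sub_le N 1) (Nat.le_succ n) (by omega)]
        exact ((T'.P_succ (le_refl n) _).trans (T'.P_self n _)).symm
      rw [← map_smul, smul_sub, h1, sub_sub_cancel, h3,
        P_up_eq_zero T' (show n = (n - N) + (N - 1) + 1 by omega)]⟩)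
  refine range_d_mono T' ι (Nat.sub_le N 1) ⟨z, ?_⟩
  rw [← d_up T' ι hN' z, hz, map_sub, map_smul, d_t, sub_zero]

end Bound

end Groth.Agent.HyperGen
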